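import Cfsg.Agent.BlkChar.ArcEigen

/-!
# Blichfeldt's lemma in its inclusive form

If all eigenvalues of `y` have distance at most one from its eigenvalue `1`, then every conjugate
of `y` leaves the fixed space of `y` invariant.
-/

set_option linter.unusedSectionVars false
set_option linter.style.haveILetI false

open scoped InnerProductSpace

namespace Cfsg.Agent.Blocks88.FourDiff.Arc

open Cfsg.Agent.BlkChar Cfsg.Agent.BlkChar.Arc

variable {G : Type*} [Group G] [Finite G] {V : Type*} [NormedAddCommGroup V]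
  [InnerProductSpace ℂ V] [FiniteDimensional ℂ V] {u : G →* (V →L[ℂ] V)}
  (hu : ∀ g v, ‖u g v‖ = ‖v‖) {y : G}
  (hy : ∀ v, ‖u y v - v‖ ≤ ‖v‖)

include hu hy

theorem spread_commutator_lt (z : G) (hpos : spread u y 1 z ≠ 0) :
    spread u y 1 (y * z * y⁻¹ * z⁻¹) < spread u y 1 z := by
  rw [← spread_inv hu z] at hpos ⊢
  rw [spread] at hpos
  rw [spread, spread]
  set W := eig u y 1
  have key : ∀ i, ‖Wᗮ.starProjection
        (u (y * z * y⁻¹ * z⁻¹) ((stdOrthonormalBasis ℂ W) i : V))‖ ^ 2 ≤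
        ‖Wᗮ.starProjection (u z⁻¹ ((stdOrthonormalBasis ℂ W) i : V))‖ ^ 2 ∧
      (‖Wᗮ.starProjection (u z⁻¹ ((stdOrthonormalBasis ℂ W) i : V))‖ ^ 2 ≠ 0 →
        ‖Wᗮ.starProjection (u (y * z * y⁻¹ * z⁻¹) ((stdOrthonormalBasis ℂ W) i : V))‖ ^ 2 <
        ‖Wᗮ.starProjection (u z⁻¹ ((stdOrthonormalBasis ℂ W) i : V))‖ ^ 2) := by
    intro i
    set v := ((stdOrthonormalBasis ℂ W i : W) : V) with hv
    have hvW : v ∈ W := (stdOrthonormalBasis ℂ W i).2
    have hvfix : u y v = v := by rw [mem_eig.mp hvW, one_smul]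
    have hvn : ‖v‖ = 1 := (stdOrthonormalBasis ℂ W).norm_eq_one i
    set x := u z⁻¹ v with hx
    set b := Wᗮ.starProjection x with hb
    have hsplit : x = W.starProjection x + b :=
      (Submodule.starProjection_add_starProjection_orthogonal (K := W) x).symm
    set a := W.starProjection x
    have ha : u y⁻¹ a = a := by
      have h1 : u y a = a := by
        rw [mem_eig.mp (W.starProjection_apply_mem x), one_smul]
      have h2 := congrArg (u y⁻¹) h1
      rw [u_inv_apply_apply] at h2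
      exact h2.symm
    set w := u (y * z * y⁻¹ * z⁻¹) v with hw
    have hwv : w - v = u (y * z) (u y⁻¹ b - b) := by
      have h1 : v = u (y * z) x := by
        rw [hx, u_mul_apply, u_apply_inv_apply, hvfix]
      have h2 : w = u (y * z) (u y⁻¹ x) := by
        rw [hw, hx, ← u_mul_apply u y⁻¹, ← u_mul_apply, ← mul_assoc]
      conv_lhs => rw [h2, h1, ← map_sub, hsplit, map_add, ha, add_sub_add_left_eq_sub]
    have hnorm : ‖w - v‖ ≤ ‖b‖ := by
      rw [hwv, hu, ← hu y (u y⁻¹ b - b), map_sub, u_apply_inv_apply, norm_sub_rev]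
      exact hy b
    set e := w - v with he
    have hpyth := W.norm_sq_eq_add_norm_sq_starProjection e
    have hproj : Wᗮ.starProjection w = Wᗮ.starProjection e := by
      have hv0 : Wᗮ.starProjection v = 0 := by
        rw [Submodule.starProjection_apply_eq_zero_iff, Submodule.orthogonal_orthogonal]
        exact hvW
      rw [he, map_sub, hv0, sub_zero]
    have hsq : ‖e‖ ^ 2 ≤ ‖b‖ ^ 2 := pow_le_pow_left₀ (norm_nonneg _) hnorm 2
    refine ⟨?_, fun hb0 => ?_⟩
    · rw [hproj]
      nlinarith [sq_nonneg ‖W.starProjection e‖]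
    · rw [hproj]
      by_cases hP : W.starProjection e = 0
      · have hin : ⟪v, e⟫_ℂ = 0 := by
          rw [Submodule.starProjection_apply_eq_zero_iff] at hP
          exact hP v hvW
        have hwn : ‖w‖ = ‖v‖ := by rw [hw, hu]
        have hwe : w = v + e := by rw [he]; abel
        have h0 : ‖e‖ = 0 := by
          have h1 := norm_add_sq (𝕜 := ℂ) v e
          rw [← hwe, hwn, hin] at h1
          simp at h1
          simp [h1]
        rw [norm_eq_zero] at h0
        rw [h0, map_zero, norm_zero]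
        rw [zero_pow two_ne_zero]
        exact lt_of_le_of_ne (sq_nonneg _) (Ne.symm hb0)
      · have : 0 < ‖W.starProjection e‖ ^ 2 := by positivity
        nlinarith
  obtain ⟨i, -, hi⟩ := Finset.exists_ne_zero_of_sum_ne_zero hpos
  exact Finset.sum_lt_sum (fun j _ => (key j).1) ⟨i, Finset.mem_univ _, (key i).2 hi⟩

/-- If `y` preserves the translate of its fixed space by a conjugate `d`, so does `d`. -/
theorem mem_stab_of_translate {z : G}
    (h : ∀ v ∈ eig u y 1, u ((z * y * z⁻¹)⁻¹ * y * (z * y * z⁻¹)) v ∈ eig u y 1) :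
    z * y * z⁻¹ ∈ stab u y 1 := by
  set d := z * y * z⁻¹ with hd
  have hdn : ∀ w, ‖u d w - w‖ ≤ ‖w‖ := by
    intro w
    have h1 := hy (u z⁻¹ w)
    rw [hu, ← hu z (u y (u z⁻¹ w) - u z⁻¹ w), map_sub, u_apply_inv_apply,
      ← u_mul_apply, ← u_mul_apply] at h1
    exact h1
  intro v hv
  set w := u d v with hw
  rw [mem_eig, one_smul]
  set v' := u (d⁻¹ * y * d) v with hv'
  have hv'W : v' ∈ eig u y 1 := h v hv
  have hAw : u y w = u d v' := by
    rw [hv', hw, ← u_mul_apply, ← u_mul_apply]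
    congr 2
    group
  set a := v' - v with ha
  have haW : a ∈ eig u y 1 := sub_mem hv'W hv
  have hda : u y w - w = u d a := by rw [hAw, ha, map_sub]
  have horth : ⟪a, u d a⟫_ℂ = 0 := by
    have h2 := inner_map_map_of_isometry (u y) (hu y) a w
    rw [mem_eig.mp haW, one_smul] at h2
    rw [← hda, inner_sub_right, h2, sub_self]
  have ha0 : a = 0 := by
    have h3 := norm_sub_sq (𝕜 := ℂ) (u d a) a
    rw [inner_eq_zero_symm.mp horth, hu] at h3
    simp at h3
    have h4 := pow_le_pow_left₀ (norm_nonneg _) (hdn a) 2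
    have h5 : ‖a‖ ^ 2 ≤ 0 := by linarith
    exact norm_eq_zero.mp (pow_eq_zero_iff two_ne_zero |>.mp
      (le_antisymm h5 (by positivity)))
  rw [ha0, map_zero, sub_eq_zero] at hda
  exact hda

theorem conj_mem_stab (z : G) : z * y * z⁻¹ ∈ stab u y 1 := by
  classical
  haveI := Fintype.ofFinite G
  have hyS : y ∈ stab u y 1 := fun v hv => by
    rw [mem_eig.mp hv, one_smul]; exact hv
  have main : ∀ k : ℕ, ∀ z : G,
      (Finset.univ.filter fun x => spread u y 1 x < spread u y 1 z).card = k →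
      z * y * z⁻¹ ∈ stab u y 1 := by
    intro k
    induction k using Nat.strong_induction_on with
    | _ k ih =>
      intro z hk
      by_cases h0 : spread u y 1 z = 0
      · have hz := mem_stab_of_spread_eq_zero h0
        exact mul_mem (mul_mem hz hyS) (inv_mem hz)
      set w := y * z * y⁻¹ * z⁻¹ with hw
      have hlt : spread u y 1 w < spread u y 1 z := spread_commutator_lt hu hy z h0
      have hcard : (Finset.univ.filter fun x => spread u y 1 x < spread u y 1 w).card < k := by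
        rw [← hk]
        refine Finset.card_lt_card (Finset.ssubset_iff_of_subset ?_ |>.mpr ⟨w, ?_, ?_⟩)
        · intro x hx
          simp only [Finset.mem_filter, Finset.mem_univ, true_and] at hx ⊢
          exact hx.trans hlt
        · simpa using hlt
        · simp
      have h1 := ih _ hcard w rfl
      have h2 : (z * y * z⁻¹)⁻¹ * y * (z * y * z⁻¹) ∈ stab u y 1 := by
        have : (z * y * z⁻¹)⁻¹ * y * (z * y * z⁻¹) = y⁻¹ * (w * y * w⁻¹) * y := by
          rw [hw]; group
        rw [this]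
        exact mul_mem (mul_mem (inv_mem hyS) h1) hyS
      exact mem_stab_of_translate hu hy h2
  exact main _ z rfl

omit hu hy in
/-- The operator bound from the eigenvalues. -/
theorem bound_of_eigen (hu : ∀ g v, ‖u g v‖ = ‖v‖) (y : G)
    (hall : ∀ μ : ℂ, (∃ v, v ≠ 0 ∧ u y v = μ • v) → ‖μ - 1‖ ≤ 1) (v : V) :
    ‖u y v - v‖ ≤ ‖v‖ := by
  classical
  letI : CommGroup (Subgroup.zpowers y) :=
    { (inferInstance : Group (Subgroup.zpowers y)) with
      mul_comm := IsMulCommutative.is_comm.comm }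
  haveI := Fintype.ofFinite (Subgroup.zpowers y)
  haveI := Fintype.ofFinite (Subgroup.zpowers y →* ℂˣ)
  set f := cycHom u y with hf
  let y' : Subgroup.zpowers y := ⟨y, Subgroup.mem_zpowers y⟩
  have hisov := isoProj_sum f v
  have hfn : ∀ h v, ‖f h v‖ = ‖v‖ := fun h v => hu h v
  have h1 : u y v - v = ∑ l, (((l y' : ℂˣ) : ℂ) - 1) • isoProj f l v := by
    simp only [sub_smul, Finset.sum_sub_distrib, one_smul, hisov]
    congr 1
    conv_lhs => rw [← hisov, map_sum]
    exact Finset.sum_congr rfl fun l _ => isoProj_eigen f l v y'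
  rw [← sq_le_sq₀ (norm_nonneg _) (norm_nonneg _), h1, norm_sq_sum_isoProj f hfn]
  have h2 : ‖v‖ ^ 2 = ∑ l, ‖isoProj f l v‖ ^ 2 := by
    have := norm_sq_sum_isoProj f hfn (fun _ => 1) v
    simpa [hisov] using this
  rw [h2]
  refine Finset.sum_le_sum fun l _ => ?_
  by_cases hl : isoProj f l v = 0
  · simp [hl]
  · have := hall _ ⟨_, hl, isoProj_eigen f l v y'⟩
    calc ‖((l y' : ℂˣ) : ℂ) - 1‖ ^ 2 * ‖isoProj f l v‖ ^ 2 ≤ 1 ^ 2 * ‖isoProj f l v‖ ^ 2 := by
          gcongr
      _ = _ := by simp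

omit hu hy in
theorem fixed_invariant_aux (hu : ∀ g v, ‖u g v‖ = ‖v‖) {n : ℕ}
    (ρ : Representation ℂ G (Fin n → ℂ)) (E : (Fin n → ℂ) →ₗ[ℂ] V)
    (hE : Function.Injective E) (hEs : Function.Surjective E)
    (hcomm : ∀ g v, u g (E v) = E (ρ g v)) {y : G}
    (hall : ∀ μ : ℂ, (∃ v, v ≠ 0 ∧ ρ y v = μ • v) → ‖μ - 1‖ ≤ 1) (z : G) {v : Fin n → ℂ}
    (hv : ρ y v = v) : ρ y (ρ (z * y * z⁻¹) v) = ρ (z * y * z⁻¹) v := by
  have hb := bound_of_eigen hu y fun μ ⟨w, hw, he⟩ => by
    obtain ⟨w, rfl⟩ := hEs w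
    refine hall μ ⟨w, fun h => hw (by rw [h, map_zero]), hE ?_⟩
    rw [← hcomm, map_smul]
    exact he
  have h1 := conj_mem_stab hu hb z (E v) (mem_eig.mpr (by rw [hcomm, hv, one_smul]))
  rw [mem_eig, one_smul, hcomm, hcomm] at h1
  exact hE h1

omit hu hy in
/-- The conjugates of `y` leave its fixed space invariant. -/
theorem fixed_invariant {G : Type*} [Group G] [Finite G] {n : ℕ}
    (ρ : Representation ℂ G (Fin n → ℂ)) {y : G}
    (hall : ∀ μ : ℂ, (∃ v, v ≠ 0 ∧ ρ y v = μ • v) → ‖μ - 1‖ ≤ 1) (z : G) {v : Fin n → ℂ}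
    (hv : ρ y v = v) : ρ y (ρ (z * y * z⁻¹) v) = ρ (z * y * z⁻¹) v := by
  have := Fintype.ofFinite G
  exact @fixed_invariant_aux G _ _ (LinearMap.range (modelEmb ρ)) inferInstance inferInstance
    inferInstance (modelAct ρ) (modelAct_norm ρ) n ρ (modelEmb ρ).rangeRestrict
    (fun a b h => modelEmb_injective ρ (congrArg Subtype.val h))
    (LinearMap.surjective_rangeRestrict _)
    (fun g v => Subtype.ext (shiftIso_modelEmb ρ g v)) y hall z v hv

end Cfsg.Agent.Blocks88.FourDiff.Arc
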