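import Mathlib.Algebra.BigOperators.Field
import Mathlib.Data.Real.Basic
import Mathlib.Tactic.Linarith
import Mathlib.Tactic.Positivity
import Mathlib.Tactic.Ring
import Mathlib.Tactic.NormNum

/-!
# Decompositions with constrained degrees and values

Bookkeeping for sums `∑ mᵢ dᵢ`, `∑ mᵢ eᵢ` and `∑ mᵢ eᵢ²/dᵢ` when every used pair `(dᵢ, eᵢ)` is
`(≥2, 0)`, `(3, -1)` or `(d, d - 4)` with `d ≥ 5`.
-/

namespace Cfsg.Agent.Blocks88.FourDiff

open Finset

/-- The admissible pairs of degree and value. -/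
def Adm (d : ℕ) (e : ℤ) : Prop := (2 ≤ d ∧ e = 0) ∨ (d = 3 ∧ e = -1) ∨ (5 ≤ d ∧ e = (d : ℤ) - 4)

theorem adm_lower {d : ℕ} {e : ℤ} (h : Adm d e) : (e : ℝ) / 5 ≤ (e : ℝ) ^ 2 / d := by
  rcases h with ⟨hd, rfl⟩ | ⟨rfl, rfl⟩ | ⟨hd, rfl⟩
  · simp
  · norm_num
  · have h5 : (5 : ℝ) ≤ d := by exact_mod_cast hd
    push_cast
    rw [div_le_div_iff₀ (by norm_num) (by linarith)]
    nlinarith

theorem adm_lower_of_ne_five {d : ℕ} {e : ℤ} (h : Adm d e) (h5 : d = 5 → e = 0) :
    (e : ℝ) / 3 ≤ (e : ℝ) ^ 2 / d := by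
  rcases h with ⟨hd, rfl⟩ | ⟨rfl, rfl⟩ | ⟨hd, rfl⟩
  · simp
  · norm_num
  · have h6 : (6 : ℝ) ≤ d := by
      have : 6 ≤ d := by
        by_contra hlt
        have hd5 : d = 5 := by omega
        have := h5 hd5
        omega
      exact_mod_cast this
    push_cast
    rw [div_le_div_iff₀ (by norm_num) (by linarith)]
    nlinarith

variable {ι : Type*} [Fintype ι] {m d : ι → ℕ} {e : ι → ℤ}

theorem split (h : ∀ i, m i ≠ 0 → Adm (d i) (e i)) :
    ∃ a K P Z : ℕ, ∑ i, m i * d i = 3 * a + P + 4 * K + Z ∧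
      ∑ i, (m i : ℤ) * e i = (P : ℤ) - a ∧ ∑ i, m i ≤ a + K + Z ∧ K ≤ P ∧
      (K = 0 → ∑ i, (m i : ℝ) * ((e i : ℝ) ^ 2 / d i) = (a : ℝ) / 3) ∧
      (K = 1 → ∑ i, (m i : ℝ) * ((e i : ℝ) ^ 2 / d i) =
        (a : ℝ) / 3 + (P : ℝ) ^ 2 / (P + 4)) ∧
      (K = 0 → P = 0) ∧ (∀ i, m i ≠ 0 → e i = 0 → 2 ≤ Z) := by
  classical
  set A : ι → ℕ := fun i => if e i < 0 then m i else 0
  set B : ι → ℕ := fun i => if 0 < e i then m i else 0
  set Q : ι → ℕ := fun i => if 0 < e i then m i * (e i).toNat else 0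
  set C : ι → ℕ := fun i => if e i = 0 then m i * d i else 0
  have hfacts : ∀ i, m i * d i = 3 * A i + Q i + 4 * B i + C i ∧
      (m i : ℤ) * e i = (Q i : ℤ) - A i ∧ m i ≤ A i + B i + C i ∧ B i ≤ Q i ∧
      (m i : ℝ) * ((e i : ℝ) ^ 2 / d i) =
        (A i : ℝ) / 3 + (if 0 < e i then (m i : ℝ) * ((e i : ℝ) ^ 2 / d i) else 0) := by
    intro i
    by_cases hm : m i = 0
    · simp [A, B, Q, C, hm]
    rcases h i hm with ⟨hd, he⟩ | ⟨hd, he⟩ | ⟨hd, he⟩
    · simp only [A, B, Q, C, he, lt_irrefl, if_false, if_true]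
      refine ⟨by omega, by simp, ?_, le_rfl, by simp⟩
      nlinarith
    · simp only [A, B, Q, C, he, hd]
      norm_num
      exact ⟨mul_comm _ _, by ring⟩
    · have hpos : 0 < e i := by omega
      simp only [A, B, Q, C, if_pos hpos, if_neg (not_lt.mpr hpos.le), if_neg hpos.ne']
      have ht : (e i).toNat + 4 = d i := by omega
      refine ⟨?_, ?_, by omega, ?_, by simp⟩
      · rw [← ht]; ring
      · push_cast [Int.toNat_of_nonneg hpos.le]; ring
      · exact Nat.le_mul_of_pos_right _ (by omega)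
  refine ⟨∑ i, A i, ∑ i, B i, ∑ i, Q i, ∑ i, C i, ?_, ?_, ?_, ?_, fun hK => ?_, fun hK => ?_,
    fun hK => ?_, fun i hi he => ?_⟩
  · simp only [Finset.mul_sum, ← Finset.sum_add_distrib]
    exact Finset.sum_congr rfl fun i _ => (hfacts i).1
  · push_cast
    rw [← Finset.sum_sub_distrib]
    exact Finset.sum_congr rfl fun i _ => (hfacts i).2.1
  · simp only [← Finset.sum_add_distrib]
    exact Finset.sum_le_sum fun i _ => (hfacts i).2.2.1
  · exact Finset.sum_le_sum fun i _ => (hfacts i).2.2.2.1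
  · rw [Finset.sum_congr rfl fun i _ => (hfacts i).2.2.2.2, Finset.sum_add_distrib]
    push_cast
    rw [Finset.sum_div, add_eq_left]
    refine Finset.sum_eq_zero fun i _ => ?_
    split_ifs with hpos
    · have := Finset.sum_eq_zero_iff.mp hK i (Finset.mem_univ i)
      simp only [B, if_pos hpos] at this
      simp [this]
    · rfl
  · rw [Finset.sum_congr rfl fun i _ => (hfacts i).2.2.2.2, Finset.sum_add_distrib]
    push_cast
    rw [Finset.sum_div]
    congr 1
    obtain ⟨j, -, hj⟩ := Finset.exists_ne_zero_of_sum_ne_zero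
      (show ∑ i, B i ≠ 0 by rw [hK]; norm_num)
    have hoth : ∀ i, i ≠ j → B i = 0 := by
      intro i hij
      have h2 := Finset.sum_le_sum_of_subset (f := B) (Finset.subset_univ ({i, j} : Finset ι))
      rw [Finset.sum_pair hij, hK] at h2
      omega
    have hBj : B j = 1 := by
      have h2 := Finset.single_le_sum (f := B) (fun i _ => Nat.zero_le _) (Finset.mem_univ j)
      omega
    have hpos : 0 < e j := by
      by_contra hn
      simp [B, hn] at hBj
    have hmj : m j = 1 := by simpa [B, hpos] using hBj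
    rw [Finset.sum_eq_single j (fun i _ hij => ?_) (by simp),
      Finset.sum_eq_single j (fun i _ hij => ?_) (by simp)]
    · rw [if_pos hpos]
      simp only [Q, if_pos hpos, hmj, Nat.cast_one, one_mul]
      have hd : (d j : ℝ) = (e j : ℝ) + 4 := by
        have := h j (by omega)
        rcases this with ⟨-, he⟩ | ⟨-, he⟩ | ⟨-, he⟩
        · omega
        · omega
        · rw [he]; push_cast; ring
      have he' : (((e j).toNat : ℕ) : ℝ) = (e j : ℝ) := by
        exact_mod_cast Int.toNat_of_nonneg hpos.le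
      rw [he', hd]
    · simp only [Q]
      split_ifs with hp
      · have := hoth i hij
        simp only [B, if_pos hp] at this
        simp [this]
      · simp
    · split_ifs with hp
      · have := hoth i hij
        simp only [B, if_pos hp] at this
        simp [this]
      · rfl
  · refine Finset.sum_eq_zero fun i _ => ?_
    have := Finset.sum_eq_zero_iff.mp hK i (Finset.mem_univ i)
    simp only [B] at this
    simp only [Q]
    split_ifs with hp
    · rw [if_pos hp] at this; simp [this]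
    · rfl
  · have hle := Finset.single_le_sum (f := C) (fun j _ => Nat.zero_le _) (Finset.mem_univ i)
    have hd : 2 ≤ d i := by
      rcases h i hi with ⟨hd, -⟩ | ⟨-, he'⟩ | ⟨hd, -⟩ <;> omega
    simp only [C, if_pos he] at hle
    refine le_trans ?_ hle
    exact le_trans hd (Nat.le_mul_of_pos_left _ (Nat.pos_of_ne_zero hi))

end Cfsg.Agent.Blocks88.FourDiff
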