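import Cfsg.Agent.Blocks88.FourDiff.Line
import Cfsg.Agent.Blocks88.FourDiff.Split
import Cfsg.Agent.Blocks88.Basic
import Cfsg.Agent.Lib.BlocksCore.Omega
import Cfsg.Agent.Lib.CharCore.Linear
import Cfsg.Agent.Lib.CharCore.Complete
import Cfsg.Agent.Lib.CharCore.Burnside
import Cfsg.Agent.Lib.BlocksDefect.Kernel

/-!
# The hypothesis `χ(1) - χ(u) = 4` or `χ(u) = 0`
-/

open Cfsg Module
open scoped ComplexConjugate

set_option linter.style.haveILetI false

namespace Cfsg.Agent.Blocks88.FourDiff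

/-- Every nonprincipal character takes the value `0` or `χ(1) - 4` at `u`. -/
structure Hyp (G : Type*) [Group G] [Finite G] (u : G) : Prop where
  ne_one : u ≠ 1
  val : ∀ χ : IrrCharacter G, (χ : G → ℂ) ≠ (fun _ => (1 : ℂ)) →
    ((χ : G → ℂ) 1 - (χ : G → ℂ) u = 4 ∨ (χ : G → ℂ) u = 0)

/-- The principal character. -/
noncomputable def prin (G : Type*) [Group G] [Finite G] : IrrCharacter G :=
  ⟨(1 : G → ℂ), CharCore.isIrrCharacter_one⟩

variable {G : Type*} [Group G] [Finite G] {u : G}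

theorem prin_apply (g : G) : (prin G : G → ℂ) g = 1 := rfl

theorem irr_one (χ : IrrCharacter G) : (χ : G → ℂ) 1 = (charDegree (χ : G → ℂ) : ℂ) := by
  haveI := Fintype.ofFinite G
  exact BlocksCore.irr_one_eq χ

theorem degree_pos (χ : IrrCharacter G) : 0 < charDegree (χ : G → ℂ) := by
  haveI := Fintype.ofFinite G
  exact BlocksCore.charDegree_pos χ

theorem ne_prin_iff {χ : IrrCharacter G} : (χ : G → ℂ) ≠ (fun _ => (1 : ℂ)) ↔ χ ≠ prin G :=
  ⟨fun h he => h (by rw [he]; rfl), fun h he => h (Subtype.ext he)⟩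

namespace Hyp

variable (H : Hyp G u)

include H

theorem sub_eq {χ : IrrCharacter G} (hχ : χ ≠ prin G) (h : (χ : G → ℂ) u ≠ 0) :
    (χ : G → ℂ) u = (charDegree (χ : G → ℂ) : ℂ) - 4 := by
  have := (H.val χ (ne_prin_iff.mpr hχ)).resolve_right h
  rw [irr_one] at this
  linear_combination -this

theorem ne_degree {χ : IrrCharacter G} (hχ : χ ≠ prin G) :
    (χ : G → ℂ) u ≠ (χ : G → ℂ) 1 := by
  intro h
  rcases H.val χ (ne_prin_iff.mpr hχ) with h4 | h0
  · rw [h, sub_self] at h4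
    norm_num at h4
  · exact CharCore.irr_apply_one_ne_zero χ (h.symm.trans h0)

theorem normalClosure_eq_top (N : Subgroup G) [N.Normal] (hu : u ∈ N) : N = ⊤ := by
  classical
  by_contra hN
  haveI := Fintype.ofFinite G
  haveI := Fintype.ofFinite (G ⧸ N)
  obtain ⟨g, hg⟩ : ∃ g, g ∉ N := by
    by_contra h
    push Not at h
    exact hN (eq_top_iff.mpr fun g _ => h g)
  have hne : ¬ ∀ θ : IrrCharacter (G ⧸ N),
      (θ : G ⧸ N → ℂ) ((g : G) : G ⧸ N) = (θ : G ⧸ N → ℂ) ((1 : G) : G ⧸ N) := fun h => by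
    have := (CharCore.isConj_iff_forall_irr _ _).mpr h
    rw [QuotientGroup.mk_one, isConj_one_left, QuotientGroup.eq_one_iff] at this
    exact hg this
  push Not at hne
  obtain ⟨θ, hθ⟩ := hne
  set χ := BlocksDefect.inflate N θ
  have hχ : χ ≠ prin G := fun h => hθ (by
    have h1 := congrFun (congrArg Subtype.val h) g
    have h2 := congrFun (congrArg Subtype.val h) 1
    exact h1.trans h2.symm)
  refine H.ne_degree hχ ?_
  show (θ : G ⧸ N → ℂ) (u : G ⧸ N) = (θ : G ⧸ N → ℂ) ((1 : G) : G ⧸ N)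
  rw [(QuotientGroup.eq_one_iff u).mpr hu, QuotientGroup.mk_one]

theorem degree_ne_one {χ : IrrCharacter G} (hχ : χ ≠ prin G) :
    charDegree (χ : G → ℂ) ≠ 1 := by
  intro h1
  obtain ⟨f, hf⟩ := CharCore.IsCharacter.exists_hom_of_degree_one (CharCore.irr_isCharacter χ)
    (by rw [irr_one, h1, Nat.cast_one])
  have hn := CharCore.norm_hom_apply f u
  rw [← congrFun hf u] at hn
  have h0 : (χ : G → ℂ) u ≠ 0 := fun h => by rw [h, norm_zero] at hn; exact zero_ne_one hn
  rw [H.sub_eq hχ h0, h1] at hn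
  norm_num at hn

theorem perfect : commutator G = ⊤ := by
  classical
  have h1 : Nat.card {χ : IrrCharacter G // (χ : G → ℂ) 1 = 1} ≤ 1 := by
    refine Finite.card_le_one_iff_subsingleton.mpr ⟨fun a b => ?_⟩
    have key : ∀ c : {χ : IrrCharacter G // (χ : G → ℂ) 1 = 1}, c.1 = prin G := fun c => by
      by_contra hc
      refine H.degree_ne_one hc ?_
      have := c.2
      rw [irr_one] at this
      exact_mod_cast this
    exact Subtype.ext ((key a).trans (key b).symm)
  rw [CharCore.card_linearCharacters] at h1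
  have h0 : (commutator G).index ≠ 0 := Subgroup.index_ne_zero_of_finite
  exact Subgroup.index_eq_one.mp (by omega)

theorem descend {H' : Type*} [Group H'] [Finite H'] (f : G →* H') (hf : Function.Surjective f)
    (hne : f u ≠ 1) : Hyp H' (f u) := by
  refine ⟨hne, fun χ hχ => ?_⟩
  let χ' : IrrCharacter G := ⟨_, CharCore.isIrrCharacter_comp_surjective χ.2 f hf⟩
  have h := H.val χ' (fun he => hχ (funext fun y => by
    obtain ⟨g, rfl⟩ := hf y
    exact congrFun he g))
  simpa only [χ', map_one] using h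

theorem degree_two_value {χ : IrrCharacter G} (hd : charDegree (χ : G → ℂ) = 2) :
    (χ : G → ℂ) u = 0 := by
  classical
  haveI := Fintype.ofFinite G
  by_contra h0
  have hχ : χ ≠ prin G := fun h => by
    have h1 := irr_one χ
    rw [hd, h] at h1
    change (1 : ℂ) = _ at h1
    norm_num at h1
  have hu : (χ : G → ℂ) u = -2 := by rw [H.sub_eq hχ h0, hd]; norm_num
  have h1 : (χ : G → ℂ) 1 = 2 := by rw [irr_one, hd]; norm_num
  have hsq := CharCore.isCharacter_mul (CharCore.irr_isCharacter χ) (CharCore.irr_isCharacter χ)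
  have hmem : u ∈ CharCore.charKernel hsq := by
    rw [CharCore.mem_charKernel, Pi.mul_apply, Pi.mul_apply, hu, h1]
    norm_num
  have htop := H.normalClosure_eq_top (CharCore.charKernel hsq) hmem
  have hall : ∀ g, (χ : G → ℂ) g * (χ : G → ℂ) g = 4 := fun g => by
    have := (CharCore.mem_charKernel hsq g).mp (htop ▸ Subgroup.mem_top g)
    rw [Pi.mul_apply, Pi.mul_apply, h1] at this
    rw [this]; norm_num
  have hnorm := CharCore.classInner_irr_self χ
  have hterm : ∀ g : G, (χ : G → ℂ) g * conj ((χ : G → ℂ) g) = 4 := fun g => by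
    rcases mul_self_eq_mul_self_iff.mp ((hall g).trans (by norm_num : (4 : ℂ) = 2 * 2)) with e | e
      <;> simp only [e, map_neg, map_ofNat] <;> norm_num
  simp only [Cfsg.classInner, hterm] at hnorm
  rw [Finset.sum_const, Finset.card_univ, ← Nat.card_eq_fintype_card, nsmul_eq_mul, ← mul_assoc,
    inv_mul_cancel₀ (by exact_mod_cast Nat.card_pos.ne')] at hnorm
  norm_num at hnorm

end Hyp

open Classical in
/-- The integral value at `u`. -/
noncomputable def ev (u : G) (χ : IrrCharacter G) : ℤ :=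
  if χ = prin G then 1 else if (χ : G → ℂ) u = 0 then 0 else (charDegree (χ : G → ℂ) : ℤ) - 4

/-- The weight of a character in class sums. -/
noncomputable def wt (u : G) (χ : IrrCharacter G) : ℝ :=
  (ev u χ : ℝ) ^ 2 / (charDegree (χ : G → ℂ) : ℕ)

theorem charDegree_prin : charDegree (prin G : G → ℂ) = 1 := by
  have h : (1 : ℂ) = (charDegree (prin G : G → ℂ) : ℂ) := irr_one (prin G)
  exact_mod_cast h.symm

theorem ev_prin : ev u (prin G) = 1 := by rw [ev, if_pos rfl]

theorem wt_prin : wt u (prin G) = 1 := by simp [wt, ev_prin, charDegree_prin]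

namespace Hyp

variable (H : Hyp G u)

include H

theorem ev_spec (χ : IrrCharacter G) : (χ : G → ℂ) u = (ev u χ : ℂ) := by
  unfold ev
  split_ifs with h1 h2
  · rw [h1, prin_apply, Int.cast_one]
  · rw [h2, Int.cast_zero]
  · rw [H.sub_eq h1 h2]; push_cast; ring

theorem adm {χ : IrrCharacter G} (hχ : χ ≠ prin G) :
    Adm (charDegree (χ : G → ℂ)) (ev u χ) := by
  have hd1 := H.degree_ne_one hχ
  have hd0 := degree_pos χ
  by_cases h : (χ : G → ℂ) u = 0
  · left
    refine ⟨by omega, ?_⟩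
    simp [ev, hχ, h]
  have he : ev u χ = (charDegree (χ : G → ℂ) : ℤ) - 4 := by simp [ev, hχ, h]
  have h2 : charDegree (χ : G → ℂ) ≠ 2 := fun e => h (H.degree_two_value e)
  have h4 : charDegree (χ : G → ℂ) ≠ 4 := fun e => h (by rw [H.sub_eq hχ h, e]; norm_num)
  rcases (by omega : charDegree (χ : G → ℂ) = 3 ∨ 5 ≤ charDegree (χ : G → ℂ)) with e | e
  · right; left; exact ⟨e, by rw [he, e]; norm_num⟩
  · right; right; exact ⟨e, he⟩

theorem conj_value (χ : IrrCharacter G) : conj ((χ : G → ℂ) u) = (χ : G → ℂ) u := by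
  rw [H.ev_spec]; simp

theorem isConj_inv [Fintype G] : IsConj u u⁻¹ :=
  (CharCore.isConj_iff_forall_irr _ _).mpr fun χ => by
    rw [CharCore.irr_apply_inv, H.conj_value]

theorem sum_degree_mul : ∑ᶠ χ : IrrCharacter G, (χ : G → ℂ) 1 * (χ : G → ℂ) u = 0 := by
  classical
  haveI := Fintype.ofFinite G
  rw [CharCore.finsum_irr, CharCore.sum_degree_mul_apply, if_neg H.ne_one]

theorem exists_three : ∃ χ : IrrCharacter G, (χ : G → ℂ) 1 = 3 ∧ (χ : G → ℂ) u = -1 := by
  classical
  haveI := Fintype.ofFinite G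
  by_contra hno
  push Not at hno
  have h := H.sum_degree_mul
  rw [CharCore.finsum_irr] at h
  have hpos : (0 : ℤ) < ∑ χ : IrrCharacter G, (charDegree (χ : G → ℂ) : ℤ) * ev u χ := by
    refine Finset.sum_pos' (fun χ _ => ?_) ⟨prin G, Finset.mem_univ _, ?_⟩
    · by_cases hχ : χ = prin G
      · rw [hχ, ev_prin]; positivity
      rcases H.adm hχ with ⟨-, e⟩ | ⟨e3, e⟩ | ⟨e5, e⟩
      · rw [e, mul_zero]
      · exfalso
        refine hno χ ?_ ?_
        · rw [irr_one, e3]; norm_num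
        · rw [H.ev_spec, e]; norm_num
      · exact mul_nonneg (by positivity) (by omega)
    · rw [ev_prin, charDegree_prin]; norm_num
  refine hpos.ne' ?_
  have : ((∑ χ : IrrCharacter G, (charDegree (χ : G → ℂ) : ℤ) * ev u χ : ℤ) : ℂ) = 0 := by
    push_cast
    rw [← h]
    exact Finset.sum_congr rfl fun χ _ => by rw [← H.ev_spec, irr_one]
  exact_mod_cast this

end Hyp

open Classical in
/-- The conjugacy class of `u` as a finite set. -/
noncomputable def cls [Fintype G] (u : G) : Finset G :=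
  Finset.univ.filter fun x => ConjClasses.mk x = ConjClasses.mk u

theorem mem_cls [Fintype G] {u x : G} : x ∈ cls u ↔ IsConj u x := by
  simp only [cls, Finset.mem_filter, Finset.mem_univ, true_and, ConjClasses.mk_eq_mk_iff_isConj]
  exact isConj_comm

theorem card_cls [Fintype G] (u : G) :
    (cls u).card = (Subgroup.centralizer ({u} : Set G)).index := by
  classical
  rw [← CharCore.card_class_eq_index u, cls]

theorem sum_mul_apply [Fintype G] (χ : IrrCharacter G) (u : G) :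
    ∑ x ∈ cls u, (χ : G → ℂ) (u * x) =
      ((cls u).card : ℂ) * (χ : G → ℂ) u ^ 2 / (χ : G → ℂ) 1 := by
  classical
  obtain ⟨χ, n, ρ, hρ, rfl⟩ := χ
  haveI := hρ
  have hsum : ∑ x ∈ cls u, ρ.character (u * x) =
      LinearMap.trace ℂ _ (ρ u * CharClifford.classSum ρ (ConjClasses.mk u)) := by
    rw [CharClifford.classSum, Finset.mul_sum, map_sum]
    refine Finset.sum_congr ?_ fun x _ => by rw [← map_mul]; rfl
    ext x
    simp [cls]
  have hω := CharClifford.omega_mul_finrank ρ u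
  have hω' : CharClifford.omega ρ (ConjClasses.mk u) * (finrank ℂ (Fin n → ℂ) : ℂ) =
      ((cls u).card : ℂ) * ρ.character u := by
    rw [hω, cls]
    congr!
  show ∑ x ∈ cls u, ρ.character (u * x) = _ * ρ.character u ^ 2 / ρ.character 1
  rw [hsum, CharClifford.classSum_eq, mul_smul_comm, mul_one, map_smul, smul_eq_mul,
    Representation.char_one, eq_div_iff (by
      exact_mod_cast (CharClifford.finrank_pos_of_irreducible ρ).ne')]
  show CharClifford.omega ρ (ConjClasses.mk u) * ρ.character u * _ = _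
  linear_combination ρ.character u * hω'

namespace Hyp

variable [Fintype G] (H : Hyp G u)

include H

theorem sum_irr_class (χ : IrrCharacter G) :
    ∑ x ∈ cls u, (χ : G → ℂ) (u * x) = ((cls u).card : ℂ) * (wt u χ : ℂ) := by
  rw [sum_mul_apply, H.ev_spec, irr_one, wt]
  push_cast
  rw [mul_div_assoc]

theorem sum_class {φ : G → ℂ} (m : IrrCharacter G → ℕ)
    (hm : φ = ∑ χ, (m χ : ℂ) • (χ : G → ℂ)) :
    ∑ x ∈ cls u, φ (u * x) = ((cls u).card : ℂ) * ((∑ χ, (m χ : ℝ) * wt u χ : ℝ) : ℂ) := by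
  subst hm
  simp only [Finset.sum_apply, Pi.smul_apply, smul_eq_mul]
  rw [Finset.sum_comm, Complex.ofReal_sum, Finset.mul_sum]
  refine Finset.sum_congr rfl fun χ _ => ?_
  rw [← Finset.mul_sum, H.sum_irr_class]
  push_cast
  ring

theorem exists_mult {φ : G → ℂ} (hφ : IsCharacter G φ) {D : ℕ} {V : ℤ} (hD : φ 1 = D)
    (hV : φ u = V) :
    ∃ m : IrrCharacter G → ℕ, φ = ∑ χ, (m χ : ℂ) • (χ : G → ℂ) ∧
      (∀ χ : IrrCharacter G, classInner φ (χ : G → ℂ) = m χ) ∧
      ∑ χ, m χ * charDegree (χ : G → ℂ) = D ∧ ∑ χ, (m χ : ℤ) * ev u χ = V := by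
  obtain ⟨m, hm⟩ := CharCore.IsCharacter.exists_sum hφ
  refine ⟨m, hm, fun χ => by rw [hm, CharCore.classInner_sum_all], ?_, ?_⟩
  · rw [hm] at hD
    simp only [Finset.sum_apply, Pi.smul_apply, smul_eq_mul, irr_one] at hD
    exact_mod_cast hD
  · rw [hm] at hV
    simp only [Finset.sum_apply, Pi.smul_apply, smul_eq_mul, H.ev_spec] at hV
    exact_mod_cast hV

/-- The decomposition data of a character without principal constituent. -/
theorem exists_split {φ : G → ℂ} (hφ : IsCharacter G φ) {D : ℕ} {V : ℤ} (hD : φ 1 = D)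
    (hV : φ u = V) (hp : classInner φ (prin G : G → ℂ) = 0) :
    ∃ (m : IrrCharacter G → ℕ) (a K P Z : ℕ), φ = ∑ χ, (m χ : ℂ) • (χ : G → ℂ) ∧
      D = 3 * a + P + 4 * K + Z ∧ V = (P : ℤ) - a ∧ ∑ χ, m χ ≤ a + K + Z ∧ K ≤ P ∧
      (∀ χ : IrrCharacter G, classInner φ (χ : G → ℂ) = m χ) ∧
      (K = 0 → ∑ χ, (m χ : ℝ) * wt u χ = (a : ℝ) / 3) ∧
      (K = 1 → ∑ χ, (m χ : ℝ) * wt u χ = (a : ℝ) / 3 + (P : ℝ) ^ 2 / (P + 4)) ∧
      (K = 0 → P = 0) ∧ (∀ χ, m χ ≠ 0 → ev u χ = 0 → 2 ≤ Z) := by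
  obtain ⟨m, hm, hmult, hsD, hsV⟩ := H.exists_mult hφ hD hV
  have hm0 : m (prin G) = 0 := by
    have := hmult (prin G)
    rw [hp] at this
    exact_mod_cast this.symm
  have hadm : ∀ χ, m χ ≠ 0 → Adm (charDegree (χ : G → ℂ)) (ev u χ) := fun χ hχ =>
    H.adm (fun h => hχ (h ▸ hm0))
  obtain ⟨a, K, P, Z, h1, h2, h3, h4, h5, h6, h7, h8⟩ := split hadm
  exact ⟨m, a, K, P, Z, hm, hsD ▸ h1, hsV ▸ h2, h3, h4, hmult, h5, h6, h7, h8⟩

end Hyp

end Cfsg.Agent.Blocks88.FourDiff
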