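import Cfsg.Agent.Blocks88.FourDiff.Line
import Cfsg.Agent.Lib.CharCore.Basic
import Mathlib.RepresentationTheory.Invariants
import Mathlib.LinearAlgebra.TensorProduct.Basic
import Mathlib.LinearAlgebra.Matrix.Determinant.Basic

/-!
# The invariant alternating form in degree three
-/

open Cfsg Module

set_option linter.style.haveILetI false
open scoped TensorProduct ComplexConjugate

namespace Cfsg.Agent.Blocks88.FourDiff

local notation "W₃" => Fin 3 → ℂ

/-- The alternating trilinear form. -/
noncomputable def triple : W₃ →ₗ[ℂ] W₃ →ₗ[ℂ] W₃ →ₗ[ℂ] ℂ :=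
  LinearMap.mk₂ ℂ (fun v w =>
    { toFun := fun z => v 0 * (w 1 * z 2 - w 2 * z 1) - v 1 * (w 0 * z 2 - w 2 * z 0) +
        v 2 * (w 0 * z 1 - w 1 * z 0)
      map_add' := fun a b => by simp only [Pi.add_apply]; ring
      map_smul' := fun k a => by simp only [Pi.smul_apply, smul_eq_mul, RingHom.id_apply]; ring })
    (fun a b w => LinearMap.ext fun z => by simp; ring)
    (fun k a w => LinearMap.ext fun z => by simp; ring)
    (fun v a b => LinearMap.ext fun z => by simp; ring)
    (fun k v a => LinearMap.ext fun z => by simp; ring)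

theorem triple_map (A : W₃ →ₗ[ℂ] W₃) (v w z : W₃) :
    triple (A v) (A w) (A z) = LinearMap.det A * triple v w z := by
  rw [← LinearMap.det_toMatrix', Matrix.det_fin_three]
  simp only [← LinearMap.toMatrix'_mulVec A]
  simp only [triple, LinearMap.mk₂_apply, LinearMap.coe_mk, AddHom.coe_mk, Matrix.mulVec,
    dotProduct, Fin.sum_univ_three]
  ring

variable {G : Type*} [Group G] [Fintype G] (hperf : commutator G = ⊤)
  (ρ : Representation ℂ G (Fin 3 → ℂ))

include hperf

/-- The third power of a character of degree three contains the principal character. -/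
theorem classInner_cube_ne_zero :
    classInner (ρ.character * (ρ.character * ρ.character)) (fun _ => 1) ≠ 0 := by
  classical
  letI : Invertible (Fintype.card G : ℂ) :=
    invertibleOfNonzero (by exact_mod_cast Fintype.card_ne_zero)
  let τ : Representation ℂ G (W₃ ⊗[ℂ] (W₃ ⊗[ℂ] W₃)) := ρ.tprod (ρ.tprod ρ)
  let Φ : W₃ ⊗[ℂ] (W₃ ⊗[ℂ] W₃) →ₗ[ℂ] ℂ :=
    TensorProduct.lift ((TensorProduct.uncurry (RingHom.id ℂ) W₃ W₃ ℂ).comp triple)
  have hΦ : ∀ g x, Φ (τ g x) = Φ x := by
    intro g x
    have h1 : LinearMap.det (ρ g) = 1 := congrArg Units.val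
      (eq_one_of_comm hperf ((LinearMap.det (M := W₃) (A := ℂ)).comp ρ).toHomUnits g)
    induction x using TensorProduct.induction_on with
    | zero => simp
    | add a b ha hb => rw [map_add, map_add, ha, hb, map_add]
    | tmul v y =>
      induction y using TensorProduct.induction_on with
      | zero => simp
      | add a b ha hb => rw [TensorProduct.tmul_add, map_add, map_add, ha, hb, map_add]
      | tmul w z =>
        simp only [τ, Φ, Representation.tprod_apply, TensorProduct.map_tmul,
          TensorProduct.lift.tmul, LinearMap.comp_apply, TensorProduct.uncurry_apply]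
        rw [triple_map, h1, one_mul]
  have hne : τ.invariants ≠ ⊥ := by
    intro hbot
    let e : Fin 3 → W₃ := fun i => Pi.single i 1
    set x := e 0 ⊗ₜ[ℂ] (e 1 ⊗ₜ[ℂ] e 2) with hx
    have h2 : τ.averageMap x = 0 := by
      have := τ.averageMap_invariant x
      rw [hbot] at this
      exact (Submodule.mem_bot ℂ).mp this
    have h3 := congrArg Φ h2
    simp only [Representation.averageMap, GroupAlgebra.average, map_smul, map_sum,
      Representation.asAlgebraHom_of, LinearMap.smul_apply, LinearMap.sum_apply, hΦ,
      Finset.sum_const, map_zero] at h3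
    rw [Finset.card_univ, nsmul_eq_mul, smul_eq_mul, ← mul_assoc, invOf_mul_self, one_mul] at h3
    revert h3
    simp [hx, Φ, e, triple]
  haveI : Module.Finite ℂ τ.invariants := inferInstance
  haveI : Module.Free ℂ τ.invariants := Module.Free.of_divisionRing ℂ (τ.invariants : Submodule ℂ _)
  haveI : Module.Free ℂ (LinearMap.ker τ.averageMap) :=
    Module.Free.of_divisionRing ℂ (LinearMap.ker τ.averageMap : Submodule ℂ _)
  haveI : Module.Finite ℂ (LinearMap.ker τ.averageMap) := inferInstance
  have htr := (τ.isProj_averageMap).trace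
  simp only [Representation.averageMap, GroupAlgebra.average, map_smul, map_sum,
    Representation.asAlgebraHom_of, smul_eq_mul] at htr
  have hval : classInner (ρ.character * (ρ.character * ρ.character)) (fun _ => 1) =
      (finrank ℂ τ.invariants : ℂ) := by
    rw [← htr, classInner, invOf_eq_inv, Nat.card_eq_fintype_card]
    congr 1
    refine Finset.sum_congr rfl fun g _ => ?_
    rw [map_one, mul_one, ← Representation.char_tensor, ← Representation.char_tensor]
    rfl
  rw [hval]
  have h1 : Nontrivial τ.invariants := Submodule.nontrivial_iff_ne_bot.mpr hne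
  exact_mod_cast (Module.finrank_pos (R := ℂ) (M := τ.invariants)).ne'

end Cfsg.Agent.Blocks88.FourDiff
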