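import Cfsg.Agent.Blocks88.FourDiff.Values

/-!
# Moments of a function with values among `3, -1, 0, 1` and the roots of `X² - X - 1`
-/

namespace Cfsg.Agent.Blocks88.FourDiff

open Finset

open Classical in
theorem moments {ι : Type*} (S : Finset ι) (c : ι → ℂ) {i₀ : ι} (hi₀ : i₀ ∈ S)
    (h3 : ∀ i ∈ S, c i = 3 ↔ i = i₀) (hval : ∀ i ∈ S, IsVal (c i)) (σ : ι → ι)
    (hσ : ∀ i ∈ S, c i ^ 2 = c i + 1 → σ i ∈ S ∧ c (σ i) = 1 - c i)
    (hinj : ∀ i ∈ S, ∀ j ∈ S, c i ^ 2 = c i + 1 → c j ^ 2 = c j + 1 → σ i = σ j → i = j) :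
    ∃ n2 n3 n4 n5 : ℕ, (S.filter fun i => c i = -1).card = n2 ∧
      (S.filter fun i => c i = 1).card = n4 ∧
      S.card = 1 + n2 + n3 + n4 + n5 ∧
      2 * ∑ i ∈ S, c i = 6 - 2 * n2 + 2 * n4 + n5 ∧
      2 * ∑ i ∈ S, c i ^ 2 = 18 + 2 * n2 + 2 * n4 + 3 * n5 ∧
      2 * ∑ i ∈ S, c i ^ 3 = 54 - 2 * n2 + 2 * n4 + 4 * n5 ∧
      2 * ∑ i ∈ S, c i ^ 4 = 162 + 2 * n2 + 2 * n4 + 7 * n5 := by
  set R := S.filter fun i => c i ^ 2 = c i + 1
  have hc3 : (S.filter fun i => c i = 3) = {i₀} := by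
    ext i
    simp only [Finset.mem_filter, Finset.mem_singleton]
    exact ⟨fun h => (h3 i h.1).mp h.2, fun h => h ▸ ⟨hi₀, (h3 i₀ hi₀).mpr rfl⟩⟩
  have hsplit : ∀ f : ℂ → ℂ, ∑ i ∈ S, f (c i) = f 3 +
      ((S.filter fun i => c i = -1).card : ℂ) * f (-1) +
      ((S.filter fun i => c i = 0).card : ℂ) * f 0 +
      ((S.filter fun i => c i = 1).card : ℂ) * f 1 + ∑ i ∈ R, f (c i) := by
    intro f
    have h1 : ∀ i ∈ S, f (c i) = (if c i = 3 then f 3 else 0) + (if c i = -1 then f (-1) else 0) +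
        (if c i = 0 then f 0 else 0) + (if c i = 1 then f 1 else 0) +
        (if c i ^ 2 = c i + 1 then f (c i) else 0) := by
      intro i hi
      rcases hval i hi with e | e | e | e | e
      · simp only [e]; norm_num
      · simp only [e]; norm_num
      · simp only [e]; norm_num
      · simp only [e]; norm_num
      · have e3 : c i ≠ 3 := fun h => by rw [h] at e; norm_num at e
        have e1 : c i ≠ -1 := fun h => by rw [h] at e; norm_num at e
        have e0 : c i ≠ 0 := fun h => by rw [h] at e; norm_num at e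
        have e1' : c i ≠ 1 := fun h => by rw [h] at e; norm_num at e
        simp [e, e3, e1, e0, e1']
    rw [Finset.sum_congr rfl h1]
    simp only [Finset.sum_add_distrib, ← Finset.sum_filter, Finset.sum_const, nsmul_eq_mul, hc3,
      Finset.card_singleton, Nat.cast_one, one_mul]
    rfl
  have hRroot : ∀ i ∈ R, c i ^ 2 = c i + 1 := fun i hi => (Finset.mem_filter.mp hi).2
  have hRS : ∀ i ∈ R, i ∈ S := fun i hi => (Finset.mem_filter.mp hi).1
  have hmaps : ∀ i ∈ R, σ i ∈ R := by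
    intro i hi
    obtain ⟨hS, he⟩ := hσ i (hRS i hi) (hRroot i hi)
    refine Finset.mem_filter.mpr ⟨hS, ?_⟩
    rw [he]
    linear_combination hRroot i hi
  have himg : R.image σ = R := by
    refine Finset.eq_of_subset_of_card_le (Finset.image_subset_iff.mpr hmaps) (le_of_eq ?_)
    exact (Finset.card_image_of_injOn fun i hi j hj e => hinj i (hRS i hi) j (hRS j hj)
      (hRroot i hi) (hRroot j hj) e).symm
  have hsum : 2 * ∑ i ∈ R, c i = (R.card : ℂ) := by
    have h1 : ∑ i ∈ R, c i = ∑ i ∈ R, (1 - c i) := by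
      conv_lhs => rw [← himg]
      rw [Finset.sum_image fun i hi j hj e => hinj i (hRS i hi) j (hRS j hj)
        (hRroot i hi) (hRroot j hj) e]
      exact Finset.sum_congr rfl fun i hi => (hσ i (hRS i hi) (hRroot i hi)).2
    rw [Finset.sum_sub_distrib, Finset.sum_const, nsmul_eq_mul, mul_one] at h1
    linear_combination h1
  have h2 : 2 * ∑ i ∈ R, c i ^ 2 = 3 * (R.card : ℂ) := by
    rw [Finset.sum_congr rfl hRroot, Finset.sum_add_distrib, Finset.sum_const, nsmul_eq_mul]
    linear_combination hsum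
  have h3' : 2 * ∑ i ∈ R, c i ^ 3 = 4 * (R.card : ℂ) := by
    rw [Finset.sum_congr rfl (g := fun i => c i ^ 2 + c i)
      fun i hi => by linear_combination c i * hRroot i hi, Finset.sum_add_distrib]
    linear_combination h2 + hsum
  have h4 : 2 * ∑ i ∈ R, c i ^ 4 = 7 * (R.card : ℂ) := by
    rw [Finset.sum_congr rfl (g := fun i => c i ^ 3 + c i ^ 2)
      fun i hi => by linear_combination c i ^ 2 * hRroot i hi, Finset.sum_add_distrib]
    linear_combination h3' + h2
  refine ⟨_, (S.filter fun i => c i = 0).card, (S.filter fun i => c i = 1).card, R.card, rfl, rfl,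
    ?_, ?_, ?_, ?_, ?_⟩
  · have h := hsplit fun _ => 1
    simp only [Finset.sum_const, nsmul_eq_mul, mul_one] at h
    exact_mod_cast h
  · rw [hsplit fun x => x]; linear_combination hsum
  · rw [hsplit fun x => x ^ 2]; linear_combination h2
  · rw [hsplit fun x => x ^ 3]; linear_combination h3'
  · rw [hsplit fun x => x ^ 4]; linear_combination h4

end Cfsg.Agent.Blocks88.FourDiff
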