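import Cfsg.Agent.Blocks88.FourDiff.Hyp
import Cfsg.Agent.Blocks88.FourDiff.Moments
import Cfsg.Agent.Blocks88.FourDiff.Invariant
import Mathlib.GroupTheory.Perm.Cycle.Type

/-!
# The image of a character of degree three

Under the hypothesis `χ(1) - χ(u) = 4` or `χ(u) = 0`, a faithful character of degree three with
`χ(u) = -1` is real and the group has order sixty.
-/

open Cfsg Module
open scoped ComplexConjugate

set_option linter.style.haveILetI false
set_option linter.unusedSectionVars false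

namespace Cfsg.Agent.Blocks88.FourDiff

variable {G : Type*} [Group G] [Fintype G] {u : G}

/-- Removing a constituent. -/
theorem isCharacter_sub {φ : G → ℂ} (hφ : IsCharacter G φ) (τ : IrrCharacter G)
    (h : classInner φ (τ : G → ℂ) ≠ 0) : IsCharacter G (φ - (τ : G → ℂ)) := by
  classical
  obtain ⟨m, rfl⟩ := CharCore.IsCharacter.exists_sum hφ
  rw [CharCore.classInner_sum_all] at h
  have h1 : m τ ≠ 0 := fun e => h (by rw [e, Nat.cast_zero])
  have he : ∑ χ, (m χ : ℂ) • (χ : G → ℂ) - (τ : G → ℂ) =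
      ∑ χ, ((Function.update m τ (m τ - 1) χ : ℕ) : ℂ) • (χ : G → ℂ) := by
    rw [sub_eq_iff_eq_add, ← Finset.add_sum_erase _ _ (Finset.mem_univ τ),
      ← Finset.add_sum_erase _ (fun χ : IrrCharacter G =>
        ((Function.update m τ (m τ - 1) χ : ℕ) : ℂ) • (χ : G → ℂ)) (Finset.mem_univ τ),
      Finset.sum_congr rfl (g := fun χ : IrrCharacter G =>
        ((Function.update m τ (m τ - 1) χ : ℕ) : ℂ) • (χ : G → ℂ))
        fun χ hχ => by rw [Function.update_of_ne (Finset.ne_of_mem_erase hχ)]]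
    rw [Function.update_self, Nat.cast_sub (Nat.one_le_iff_ne_zero.mpr h1), sub_smul, Nat.cast_one,
      one_smul]
    abel
  rw [he]
  exact CharCore.isCharacter_sum_irr _

theorem classInner_mul_right (φ ψ θ : G → ℂ) :
    classInner (φ * ψ) θ = classInner φ ((fun g => conj (ψ g)) * θ) := by
  simp only [classInner, Pi.mul_apply, map_mul, Complex.conj_conj, mul_assoc]

namespace Hyp

variable (H : Hyp G u) (ρ : Representation ℂ G (Fin 3 → ℂ)) [ρ.IsIrreducible]

/-- The character as an irreducible character. -/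
noncomputable def chi : IrrCharacter G := ⟨ρ.character, 3, ρ, inferInstance, rfl⟩

/-- Its complex conjugate. -/
noncomputable def chiBar : IrrCharacter G :=
  ⟨fun g => conj (ρ.character g), CharCore.isIrrCharacter_star (chi ρ).2⟩

theorem char_one : ρ.character 1 = 3 := by simp

theorem chi_ne_prin : chi ρ ≠ prin G := fun h => by
  have := congrFun (congrArg Subtype.val h) 1
  rw [show (chi ρ).1 1 = ρ.character 1 from rfl, char_one] at this
  change (3 : ℂ) = 1 at this
  norm_num at this

theorem chiBar_ne_prin : chiBar ρ ≠ prin G := fun h => by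
  have := congrFun (congrArg Subtype.val h) 1
  rw [show (chiBar ρ).1 1 = conj (ρ.character 1) from rfl, char_one] at this
  change conj (3 : ℂ) = 1 at this
  rw [map_ofNat] at this
  norm_num at this

variable (hinj : Function.Injective ρ) (hu : ρ.character u = -1)

include H hinj hu

theorem u_sq : u ^ 2 = 1 :=
  ((real_data H.perfect ρ hinj (by rw [hu]; simp)).2.2.1).mp (Or.inr hu)

theorem inv_u : u⁻¹ = u := inv_eq_of_mul_eq_one_right (by rw [← pow_two, H.u_sq ρ hinj hu])

theorem mul_self_cls {x : G} (hx : x ∈ cls u) : x * x = 1 := by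
  obtain ⟨c, rfl⟩ := isConj_iff.mp (mem_cls.mp hx)
  rw [show c * u * c⁻¹ * (c * u * c⁻¹) = c * (u * u) * c⁻¹ by group, ← pow_two, H.u_sq ρ hinj hu]
  group

theorem real_prod {x : G} (hx : x ∈ cls u) :
    conj (ρ.character (u * x)) = ρ.character (u * x) := by
  rw [← CharClifford.character_inv, mul_inv_rev, H.inv_u ρ hinj hu,
    inv_eq_of_mul_eq_one_right (H.mul_self_cls ρ hinj hu hx)]
  exact ρ.char_mul_comm u x

theorem prod_three {x : G} (hx : x ∈ cls u) : ρ.character (u * x) = 3 ↔ x = u := by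
  rw [(real_data H.perfect ρ hinj (H.real_prod ρ hinj hu hx)).2.1]
  constructor
  · intro h
    rw [← inv_eq_of_mul_eq_one_right h, H.inv_u ρ hinj hu]
  · rintro rfl
    rw [← pow_two, H.u_sq ρ hinj hu]

/-- The linear equation of `χ`. -/
theorem sum_chi : ∑ x ∈ cls u, ρ.character (u * x) = ((cls u).card : ℂ) / 3 := by
  rw [show (fun x => ρ.character (u * x)) = fun x => (chi ρ : G → ℂ) (u * x) from rfl,
    sum_mul_apply, show (chi ρ : G → ℂ) u = ρ.character u from rfl,
    show (chi ρ : G → ℂ) 1 = ρ.character 1 from rfl, hu, char_one]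
  ring

theorem sum_chiBar :
    ∑ x ∈ cls u, (chiBar ρ : G → ℂ) (u * x) = ((cls u).card : ℂ) / 3 := by
  rw [← H.sum_chi ρ hinj hu]
  exact Finset.sum_congr rfl fun x hx => H.real_prod ρ hinj hu hx

theorem moments_cls :
    ∃ n2 n3 n4 n5 : ℕ, ((cls u).filter fun x => ρ.character (u * x) = -1).card = n2 ∧
      ((cls u).filter fun x => ρ.character (u * x) = 1).card = n4 ∧
      (cls u).card = 1 + n2 + n3 + n4 + n5 ∧
      2 * ∑ i ∈ cls u, ρ.character (u * i) = 6 - 2 * n2 + 2 * n4 + n5 ∧
      2 * ∑ i ∈ cls u, ρ.character (u * i) ^ 2 = 18 + 2 * n2 + 2 * n4 + 3 * n5 ∧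
      2 * ∑ i ∈ cls u, ρ.character (u * i) ^ 3 = 54 - 2 * n2 + 2 * n4 + 4 * n5 ∧
      2 * ∑ i ∈ cls u, ρ.character (u * i) ^ 4 = 162 + 2 * n2 + 2 * n4 + 7 * n5 := by
  classical
  have hus := H.u_sq ρ hinj hu
  refine moments (cls u) (fun x => ρ.character (u * x)) (i₀ := u) (mem_cls.mpr (IsConj.refl u))
    (fun i hi => H.prod_three ρ hinj hu hi)
    (fun i hi => (real_data H.perfect ρ hinj (H.real_prod ρ hinj hu hi)).1)
    (fun x => x * u * x) (fun i hi hroot => ?_) fun i hi j hj hri hrj he => ?_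
  · have hd := (real_data H.perfect ρ hinj (H.real_prod ρ hinj hu hi)).2.2.2 hroot
    refine ⟨mem_cls.mpr (isConj_iff.mpr ⟨i, ?_⟩), ?_⟩
    · rw [inv_eq_of_mul_eq_one_right (H.mul_self_cls ρ hinj hu hi)]
    · have h2 := hd.2
      simp only [pow_two] at h2
      convert h2 using 2
      group
  · have hi5 := ((real_data H.perfect ρ hinj (H.real_prod ρ hinj hu hi)).2.2.2 hri).1
    have hj5 := ((real_data H.perfect ρ hinj (H.real_prod ρ hinj hu hj)).2.2.2 hrj).1
    have h2 : (u * i) ^ 2 = (u * j) ^ 2 := by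
      rw [pow_two, pow_two, show u * i * (u * i) = u * (i * u * i) by group,
        show u * j * (u * j) = u * (j * u * j) by group, he]
    have h6 : ∀ z : G, z ^ 5 = 1 → (z ^ 2) ^ 3 = z := fun z hz => by
      rw [← pow_mul, show 2 * 3 = 5 + 1 from rfl, pow_add, hz, one_mul, pow_one]
    exact mul_left_cancel ((h6 _ hi5).symm.trans ((congrArg (· ^ 3) h2).trans (h6 _ hj5)))

theorem classInner_chiBar_sq :
    classInner (ρ.character * ρ.character) (chiBar ρ : G → ℂ) ≠ 0 := by
  have h := classInner_cube_ne_zero H.perfect ρ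
  intro h0
  refine h ?_
  rw [classInner_mul_right]
  rw [show ρ.character * ρ.character = ρ.character * ρ.character from rfl] at h0
  rw [classInner_mul_right] at h0
  rw [← h0]
  congr 1
  funext g
  show conj ((ρ.character * ρ.character) g) * 1 = conj (ρ.character g) * conj (ρ.character g)
  rw [mul_one, Pi.mul_apply, map_mul]

theorem isCharacter_psi :
    IsCharacter G (ρ.character * ρ.character - (chiBar ρ : G → ℂ)) :=
  isCharacter_sub (CharCore.isCharacter_mul (CharCore.irr_isCharacter (chi ρ))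
    (CharCore.irr_isCharacter (chi ρ))) _ (H.classInner_chiBar_sq ρ hinj hu)

/-- A character of degree three with value `-1` is real. -/
theorem real (g : G) : conj (ρ.character g) = ρ.character g := by
  classical
  by_contra hg
  have hne : chi ρ ≠ chiBar ρ := fun h => hg (congrFun (congrArg Subtype.val h) g).symm
  set c : G → ℂ := ρ.character
  have hc1 : c 1 = 3 := char_one ρ
  set ψ : G → ℂ := c * c - (chiBar ρ : G → ℂ) with hψdef
  have hψ : IsCharacter G ψ := H.isCharacter_psi ρ hinj hu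
  have hψ1 : ψ 1 = ((6 : ℕ) : ℂ) := by
    show c 1 * c 1 - conj (c 1) = _
    rw [hc1, map_ofNat]; norm_num
  have hψu : ψ u = ((2 : ℤ) : ℂ) := by
    show c u * c u - conj (c u) = _
    rw [hu]; norm_num
  have hψp : classInner ψ (prin G : G → ℂ) = 0 := by
    rw [hψdef, CharCore.classInner_sub_left, CharCore.classInner_irr_of_ne (chiBar_ne_prin ρ),
      sub_zero, classInner_mul_right,
      show (fun g => conj (c g)) * (prin G : G → ℂ) = (chiBar ρ : G → ℂ) from
        funext fun g => mul_one _]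
    exact CharCore.classInner_irr_of_ne hne
  obtain ⟨m, a, K, P, Z, hm, hD, hV, hsum, hKP, hmult, -, hT1, hK0, -⟩ :=
    H.exists_split hψ hψ1 hψu hψp
  have hK : K = 1 ∧ a = 0 ∧ P = 2 ∧ Z = 0 := by
    by_cases hK : K = 0
    · have := hK0 hK; omega
    · omega
  obtain ⟨rfl, rfl, rfl, rfl⟩ := hK
  have hTψ : ∑ χ, (m χ : ℝ) * wt u χ = 2 / 3 := by rw [hT1 rfl]; norm_num
  obtain ⟨τ, hτ⟩ : ∃ τ : IrrCharacter G, (τ : G → ℂ) = ψ := by
    obtain ⟨τ, hτ⟩ : ∃ τ, m τ ≠ 0 := by
      by_contra h
      push Not at h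
      rw [hm] at hψ1
      simp [h] at hψ1
    refine ⟨τ, ?_⟩
    have hle := Finset.single_le_sum (f := m) (fun i _ => Nat.zero_le _) (Finset.mem_univ τ)
    have hoth : ∀ χ, χ ≠ τ → m χ = 0 := fun χ hχ => by
      have h2 := Finset.sum_le_sum_of_subset (f := m) (Finset.subset_univ ({χ, τ} : Finset _))
      rw [Finset.sum_pair hχ] at h2
      omega
    rw [hm, Finset.sum_eq_single τ (fun χ _ hχ => by simp [hoth χ hχ]) (by simp),
      show m τ = 1 by omega, Nat.cast_one, one_smul]
  have hτ1 : (τ : G → ℂ) 1 = 6 := by rw [hτ, hψ1]; norm_num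
  have hτbar : τ ≠ chiBar ρ := fun h => by
    have := congrFun (congrArg Subtype.val h) 1
    rw [hτ1, show (chiBar ρ).1 1 = conj (c 1) from rfl, hc1, map_ofNat] at this
    norm_num at this
  -- the class sums
  obtain ⟨n2, n3, n4, n5, hn2, -, hL, hs1, hs2, hs3, hs4⟩ := H.moments_cls ρ hinj hu
  set L := (cls u).card
  have hreal : ∀ x ∈ cls u, (chiBar ρ : G → ℂ) (u * x) = c (u * x) :=
    fun x hx => H.real_prod ρ hinj hu hx
  have hSψ : ∑ x ∈ cls u, (c (u * x) ^ 2 - c (u * x)) = (L : ℂ) * ((2 / 3 : ℝ) : ℂ) := by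
    rw [← hTψ, ← H.sum_class m hm]
    refine Finset.sum_congr rfl fun x hx => ?_
    rw [hψdef, Pi.sub_apply, Pi.mul_apply, hreal x hx, pow_two]
  have hchi := H.sum_chi ρ hinj hu
  have e1 : (18 : ℤ) - 6 * n2 + 6 * n4 + 3 * n5 = 2 * L := by
    have : ((18 - 6 * n2 + 6 * n4 + 3 * n5 : ℤ) : ℂ) = ((2 * L : ℤ) : ℂ) := by
      push_cast; linear_combination (-3 : ℂ) * hs1 + 6 * hchi
    exact_mod_cast this
  have e2 : (18 : ℤ) + 6 * n2 + 3 * n5 = 2 * L := by
    rw [Finset.sum_sub_distrib] at hSψ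
    push_cast at hSψ
    have : ((18 + 6 * n2 + 3 * n5 : ℤ) : ℂ) = ((2 * L : ℤ) : ℂ) := by
      push_cast; linear_combination (-3 / 2 : ℂ) * hs2 + (3 / 2 : ℂ) * hs1 + 3 * hSψ
    exact_mod_cast this
  -- `χχ̄` has no other nonzero value at `u`
  set cc : G → ℂ := c * (chiBar ρ : G → ℂ) with hccdef
  have hcc : IsCharacter G cc :=
    CharCore.isCharacter_mul (CharCore.irr_isCharacter (chi ρ)) (CharCore.irr_isCharacter _)
  obtain ⟨mc, hmc, hmcmult, -, -⟩ := H.exists_mult hcc (D := 9) (V := 1)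
    (by show c 1 * conj (c 1) = _; rw [hc1, map_ofNat]; norm_num)
    (by show c u * conj (c u) = _; rw [hu]; norm_num)
  have hmcp : mc (prin G) = 1 := by
    have h := hmcmult (prin G)
    rw [hccdef, classInner_mul_right, show (fun g => conj ((chiBar ρ : G → ℂ) g)) *
      (prin G : G → ℂ) = (chi ρ : G → ℂ) from funext fun g => by
        show conj (conj (c g)) * 1 = c g
        rw [Complex.conj_conj, mul_one]] at h
    rw [show c = (chi ρ : G → ℂ) from rfl, CharCore.classInner_irr_self] at h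
    exact_mod_cast h.symm
  have hzero : ∀ χ, χ ≠ prin G → mc χ ≠ 0 → ev u χ = 0 := by
    intro χ hχp hχ
    have hTcc : ∑ χ, (mc χ : ℝ) * wt u χ = 1 := by
      have h := H.sum_class mc hmc
      have h' : ∑ x ∈ cls u, cc (u * x) = (L : ℂ) := by
        rw [Finset.sum_congr rfl (g := fun x => (c (u * x) ^ 2 - c (u * x)) + c (u * x))
          fun x hx => by rw [hccdef, Pi.mul_apply, hreal x hx]; ring,
          Finset.sum_add_distrib, hSψ, hchi]
        push_cast; ring
      rw [h'] at h
      have hL0 : (L : ℝ) ≠ 0 := by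
        have : L ≠ 0 := by omega
        exact_mod_cast this
      have hR : (L : ℝ) * ∑ χ, (mc χ : ℝ) * wt u χ = (L : ℝ) * 1 := by
        rw [mul_one]; exact_mod_cast h.symm
      exact mul_left_cancel₀ hL0 hR
    rw [← Finset.add_sum_erase _ _ (Finset.mem_univ (prin G)), hmcp, wt_prin, Nat.cast_one,
      one_mul, add_eq_left] at hTcc
    have h0 := (Finset.sum_eq_zero_iff_of_nonneg fun χ _ =>
      mul_nonneg (Nat.cast_nonneg _) (by unfold wt; positivity)).mp hTcc χ
        (Finset.mem_erase.mpr ⟨hχp, Finset.mem_univ _⟩)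
    rcases mul_eq_zero.mp h0 with h | h
    · exact absurd (by exact_mod_cast h) hχ
    · unfold wt at h
      rcases div_eq_zero_iff.mp h with h | h
      · exact_mod_cast pow_eq_zero_iff two_ne_zero |>.mp h
      · exact absurd (by exact_mod_cast h) (degree_pos χ).ne'
  -- the character `χψ`
  set π : G → ℂ := c * ψ with hπdef
  have hπ : IsCharacter G π := CharCore.isCharacter_mul (CharCore.irr_isCharacter (chi ρ)) hψ
  have hπp : classInner π (prin G : G → ℂ) = 0 := by
    rw [hπdef, mul_comm, classInner_mul_right, show (fun g => conj (c g)) * (prin G : G → ℂ) =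
      (chiBar ρ : G → ℂ) from funext fun g => mul_one _, ← hτ]
    exact CharCore.classInner_irr_of_ne hτbar
  obtain ⟨mp, a', K', P', Z', hmp, hD', hV', -, hKP', hmpmult, hT0', hT1', hK0', hZ'⟩ :=
    H.exists_split hπ (D := 18) (V := -2)
      (by show c 1 * ψ 1 = _; rw [hc1, hψ1]; norm_num)
      (by show c u * ψ u = _; rw [hu, hψu]; norm_num) hπp
  have hZ2 : 2 ≤ Z' := by
    have hkey : classInner π cc ≠ 0 := by
      have hdec : classInner π cc = classInner (ψ * (chiBar ρ : G → ℂ)) (fun g => conj (ψ g)) +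
          classInner (fun g => conj (ψ g)) (fun g => conj (ψ g)) +
          classInner c (fun g => conj (ψ g)) := by
        rw [← CharCore.classInner_add_left, ← CharCore.classInner_add_left]
        simp only [classInner]
        congr 1
        refine Finset.sum_congr rfl fun g _ => ?_
        have h1 : ψ g = c g * c g - conj (c g) := rfl
        simp only [hπdef, hccdef, Pi.mul_apply, Pi.add_apply, h1, show (chiBar ρ : G → ℂ) g =
          conj (c g) from rfl, map_mul, map_sub, Complex.conj_conj]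
        ring
      have hstar : IsCharacter G (fun g => conj (ψ g)) := CharCore.IsCharacter.star hψ
      obtain ⟨k1, hk1⟩ := CharCore.IsCharacter.exists_classInner_eq_natCast
        (CharCore.isCharacter_mul hψ (CharCore.irr_isCharacter (chiBar ρ))) hstar
      obtain ⟨k2, hk2⟩ := CharCore.IsCharacter.exists_classInner_eq_natCast
        (CharCore.irr_isCharacter (chi ρ)) hstar
      have hk3 : classInner (fun g => conj (ψ g)) (fun g => conj (ψ g)) = 1 := by
        rw [← hτ]
        exact CharCore.classInner_irr_self (⟨_, CharCore.isIrrCharacter_star τ.2⟩ : IrrCharacter G)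
      rw [hdec, hk1, hk3, show c = (chi ρ : G → ℂ) from rfl, hk2]
      exact_mod_cast (by omega : k1 + 1 + k2 ≠ 0)
    rw [hmp, hmc, CharCore.classInner_sum_sum] at hkey
    obtain ⟨χ, -, hχ⟩ := Finset.exists_ne_zero_of_sum_ne_zero hkey
    have h1 : mp χ ≠ 0 := fun e => hχ (by simp [e])
    have h2 : mc χ ≠ 0 := fun e => hχ (by simp [e])
    refine hZ' χ h1 (hzero χ (fun e => h1 ?_) h2)
    have := hmpmult (prin G)
    rw [hπp] at this
    rw [e]
    exact_mod_cast this.symm
  have hSπ : ∑ x ∈ cls u, (c (u * x) ^ 3 - c (u * x) ^ 2) =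
      (L : ℂ) * ((∑ χ, (mp χ : ℝ) * wt u χ : ℝ) : ℂ) := by
    rw [← H.sum_class mp hmp]
    refine Finset.sum_congr rfl fun x hx => ?_
    rw [hπdef, hψdef, Pi.mul_apply, Pi.sub_apply, Pi.mul_apply, hreal x hx]
    ring
  rw [Finset.sum_sub_distrib] at hSπ
  have e3 : (24 : ℤ) * n2 + 3 * n5 = 72 ∨ (56 : ℤ) * n2 + 13 * n5 = 72 := by
    by_cases hK : K' = 0
    · have := hK0' hK
      obtain rfl : a' = 2 := by omega
      rw [hT0' hK] at hSπ
      push_cast at hSπ
      left
      have : ((108 - 12 * n2 + 3 * n5 : ℤ) : ℂ) = ((4 * L : ℤ) : ℂ) := by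
        push_cast; linear_combination (-3 : ℂ) * hs3 + 3 * hs2 + 6 * hSπ
      have : (108 : ℤ) - 12 * n2 + 3 * n5 = 4 * L := by exact_mod_cast this
      omega
    · obtain ⟨rfl, rfl, rfl⟩ : a' = 3 ∧ K' = 1 ∧ P' = 1 := by omega
      rw [hT1' rfl] at hSπ
      push_cast at hSπ
      right
      have : ((180 - 20 * n2 + 5 * n5 : ℤ) : ℂ) = ((12 * L : ℤ) : ℂ) := by
        push_cast; linear_combination (-5 : ℂ) * hs3 + 5 * hs2 + 10 * hSπ
      have : (180 : ℤ) - 20 * n2 + 5 * n5 = 12 * L := by exact_mod_cast this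
      omega
  -- the character `ψψ̄`
  set q : G → ℂ := ψ * fun g => conj (ψ g) with hqdef
  have hq : IsCharacter G q := CharCore.isCharacter_mul hψ (CharCore.IsCharacter.star hψ)
  obtain ⟨mq, hmq, hmqmult, -, hqV⟩ := H.exists_mult hq (D := 36) (V := 4)
    (by show ψ 1 * conj (ψ 1) = _; rw [hψ1, Complex.conj_natCast]; norm_num)
    (by show ψ u * conj (ψ u) = _; rw [hψu, ← RCLike.star_def, star_intCast]; norm_num)
  have hmqp : mq (prin G) = 1 := by
    have h := hmqmult (prin G)
    rw [hqdef, classInner_mul_right, show (fun g => conj (conj (ψ g))) * (prin G : G → ℂ) = ψ from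
      funext fun g => by show conj (conj (ψ g)) * 1 = _; rw [Complex.conj_conj, mul_one],
      ← hτ, CharCore.classInner_irr_self] at h
    exact_mod_cast h.symm
  set Tq := ∑ χ, (mq χ : ℝ) * wt u χ with hTq
  have hVrest : ∑ χ ∈ Finset.univ.erase (prin G), (mq χ : ℝ) * (ev u χ : ℝ) = 3 := by
    have h1 : ((∑ χ, (mq χ : ℤ) * ev u χ : ℤ) : ℝ) = 4 := by rw [hqV]; norm_num
    push_cast at h1
    rw [← Finset.add_sum_erase _ _ (Finset.mem_univ (prin G)), hmqp, ev_prin] at h1
    push_cast at h1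
    linarith
  have hbound : ∀ k : ℝ, 0 < k → (∀ χ, χ ≠ prin G → (ev u χ : ℝ) / k ≤ wt u χ) →
      1 + 3 / k ≤ Tq := by
    intro k hk hle
    rw [hTq, ← Finset.add_sum_erase _ _ (Finset.mem_univ (prin G)), hmqp, wt_prin, Nat.cast_one,
      one_mul, add_le_add_iff_left, ← hVrest, Finset.sum_div]
    refine Finset.sum_le_sum fun χ hχ => ?_
    rw [mul_div_assoc]
    exact mul_le_mul_of_nonneg_left (hle χ (Finset.ne_of_mem_erase hχ)) (Nat.cast_nonneg _)
  have hSq : (36 : ℝ) + 4 * n2 + n5 = (L : ℝ) * Tq := by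
    have h := H.sum_class mq hmq
    have h' : ∑ x ∈ cls u, q (u * x) =
        ∑ x ∈ cls u, (c (u * x) ^ 4 - 2 * c (u * x) ^ 3 + c (u * x) ^ 2) := by
      refine Finset.sum_congr rfl fun x hx => ?_
      have hr : conj (c (u * x)) = c (u * x) := H.real_prod ρ hinj hu hx
      show (c (u * x) * c (u * x) - conj (c (u * x))) *
        conj (c (u * x) * c (u * x) - conj (c (u * x))) = _
      rw [map_sub, map_mul, Complex.conj_conj, hr]
      ring
    rw [h', Finset.sum_add_distrib, Finset.sum_sub_distrib, ← Finset.mul_sum] at h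
    have : (((36 : ℝ) + 4 * n2 + n5 : ℝ) : ℂ) = (((L : ℝ) * Tq : ℝ) : ℂ) := by
      push_cast
      rw [← hTq] at h
      linear_combination h - (1 / 2 : ℂ) * hs4 + hs3 - (1 / 2 : ℂ) * hs2
    exact_mod_cast this
  have e4 : (8 : ℤ) * L ≤ 180 + 20 * n2 + 5 * n5 := by
    have h1 := hbound 5 (by norm_num) fun χ hχ => by
      unfold wt; exact adm_lower (H.adm hχ)
    have h2 : (8 : ℝ) * L ≤ 180 + 20 * n2 + 5 * n5 := by
      have h3 := mul_le_mul_of_nonneg_left h1 (Nat.cast_nonneg (α := ℝ) L)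
      rw [← hSq] at h3
      linarith
    exact_mod_cast h2
  have e5 : ¬ 5 ∣ L → (2 : ℤ) * L ≤ 36 + 4 * n2 + n5 := by
    intro h5
    have h1 := hbound 3 (by norm_num) fun χ hχ => by
      unfold wt
      refine adm_lower_of_ne_five (H.adm hχ) fun hd => ?_
      by_contra he
      refine h5 ?_
      have hev : ev u χ = 1 := by
        rcases H.adm hχ with ⟨-, e⟩ | ⟨e, -⟩ | ⟨-, e⟩
        · exact absurd e he
        · omega
        · rw [hd] at e; omega
      refine CharClifford.dvd_of_mul_isIntegral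
        (CharClifford.isIntegral_class_mul_div χ.2 u) ?_
      rw [H.ev_spec, hev, irr_one, hd]
      push_cast
      have hcard := (CharCore.card_class_eq_index u).trans (card_cls u).symm
      rw [mul_one, mul_div_cancel₀ _ (by norm_num : (5 : ℂ) ≠ 0)]
      norm_cast
      convert hcard.symm
    have h2 : (2 : ℝ) * L ≤ 36 + 4 * n2 + n5 := by
      have h3 := mul_le_mul_of_nonneg_left h1 (Nat.cast_nonneg (α := ℝ) L)
      rw [← hSq] at h3
      linarith
    exact_mod_cast h2
  obtain ⟨hn2', hL'⟩ : n2 = 3 ∧ L = 18 := by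
    by_cases h5 : 5 ∣ L
    · omega
    · have := e5 h5; omega
  -- an odd permutation
  let S := {x : G // x ∈ cls u}
  let act : G →* Equiv.Perm S :=
    { toFun := fun g =>
        { toFun := fun x => ⟨g * x.1 * g⁻¹, mem_cls.mpr ((mem_cls.mp x.2).trans
            (isConj_iff.mpr ⟨g, rfl⟩))⟩
          invFun := fun x => ⟨g⁻¹ * x.1 * g, mem_cls.mpr ((mem_cls.mp x.2).trans
            (isConj_iff.mpr ⟨g⁻¹, by rw [inv_inv]⟩))⟩
          left_inv := fun x => Subtype.ext (by show g⁻¹ * (g * x.1 * g⁻¹) * g = x.1; group)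
          right_inv := fun x => Subtype.ext (by show g * (g⁻¹ * x.1 * g) * g⁻¹ = x.1; group) }
      map_one' := Equiv.ext fun x => Subtype.ext (by show 1 * x.1 * 1⁻¹ = x.1; group)
      map_mul' := fun g h => Equiv.ext fun x => Subtype.ext (by
        show g * h * x.1 * (g * h)⁻¹ = g * (h * x.1 * h⁻¹) * g⁻¹
        group) }
  have hsign : Equiv.Perm.sign (act u) = 1 :=
    eq_one_of_comm H.perfect (Equiv.Perm.sign.comp act) u
  have hact2 : act u ^ 2 = 1 := by rw [← map_pow, H.u_sq ρ hinj hu, map_one]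
  have hfix : Fintype.card (Function.fixedPoints (act u)) = 4 := by
    have hcard : Fintype.card (Function.fixedPoints (act u)) =
        ((cls u).filter fun x => ρ.character (u * x) = 3 ∨ ρ.character (u * x) = -1).card := by
      rw [← Fintype.card_coe]
      refine Fintype.card_congr
        { toFun := fun x => ⟨x.1.1, Finset.mem_filter.mpr ⟨x.1.2, ?_⟩⟩
          invFun := fun x => ⟨⟨x.1, (Finset.mem_filter.mp x.2).1⟩, ?_⟩
          left_inv := fun x => rfl
          right_inv := fun x => rfl }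
      · rw [(real_data H.perfect ρ hinj (H.real_prod ρ hinj hu x.1.2)).2.2.1, pow_two]
        have h : u * x.1.1 * u⁻¹ = x.1.1 := congrArg Subtype.val x.2
        calc u * x.1.1 * (u * x.1.1) = u * x.1.1 * u⁻¹ * x.1.1 := by
              rw [H.inv_u ρ hinj hu]; simp only [mul_assoc]
          _ = 1 := by rw [h, H.mul_self_cls ρ hinj hu x.1.2]
      · have h1 := (Finset.mem_filter.mp x.2).2
        rw [(real_data H.perfect ρ hinj
          (H.real_prod ρ hinj hu (Finset.mem_filter.mp x.2).1)).2.2.1, pow_two] at h1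
        refine Subtype.ext ?_
        show u * x.1 * u⁻¹ = x.1
        have hxx := H.mul_self_cls ρ hinj hu (Finset.mem_filter.mp x.2).1
        calc u * x.1 * u⁻¹ = u * x.1 * (u * x.1) * x.1⁻¹ := by
              rw [H.inv_u ρ hinj hu]; group
          _ = x.1 := by rw [h1, one_mul, inv_eq_of_mul_eq_one_right hxx]
    rw [hcard, Finset.filter_or, Finset.card_union_of_disjoint, hn2, hn2']
    · have : (cls u).filter (fun x => ρ.character (u * x) = 3) = {u} := by
        ext x
        simp only [Finset.mem_filter, Finset.mem_singleton]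
        refine ⟨fun h => (H.prod_three ρ hinj hu h.1).mp h.2, fun h => ?_⟩
        subst h
        exact ⟨mem_cls.mpr (IsConj.refl _),
          (H.prod_three ρ hinj hu (mem_cls.mpr (IsConj.refl _))).mpr rfl⟩
      rw [this, Finset.card_singleton]
    · refine Finset.disjoint_filter.mpr fun x _ h1 h2 => ?_
      rw [h1] at h2; norm_num at h2
  rw [Equiv.Perm.sign_of_pow_two_eq_one hact2, hfix, Fintype.card_coe, show (cls u).card = 18 from hL'] at hsign
  norm_num at hsign

/-- The group has order sixty and fifteen involutions. -/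
theorem card_eq_sixty :
    Nat.card G = 60 ∧ Nat.card {g : G // g ^ 2 = 1 ∧ g ≠ 1} = 15 ∧
      IsIrrCharacter G (ρ.character * ρ.character - ρ.character - (prin G : G → ℂ)) ∧
      ∀ g : G, ρ.character g ≠ 1 := by
  classical
  have hR := H.real ρ hinj hu
  set c : G → ℂ := ρ.character
  have hc1 : c 1 = 3 := char_one ρ
  have hbar : chiBar ρ = chi ρ := Subtype.ext (funext hR)
  have hdata := fun g => real_data H.perfect ρ hinj (hR g)
  have hψ : IsCharacter G (c * c - c) := by
    have := H.isCharacter_psi ρ hinj hu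
    rwa [hbar] at this
  have hcp : classInner c (prin G : G → ℂ) = 0 :=
    CharCore.classInner_irr_of_ne (chi_ne_prin ρ)
  have hcc1 : classInner (c * c) (prin G : G → ℂ) = 1 := by
    rw [classInner_mul_right, show (fun g => conj (c g)) * (prin G : G → ℂ) = c from
      funext fun g => (mul_one _).trans (hR g)]
    exact CharCore.classInner_irr_self (chi ρ)
  have hf0 := isCharacter_sub hψ (prin G) (by
    rw [CharCore.classInner_sub_left, hcc1, hcp, sub_zero]; exact one_ne_zero)
  set f : G → ℂ := c * c - c - (prin G : G → ℂ) with hfdef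
  have hfp : classInner f (prin G : G → ℂ) = 0 := by
    rw [hfdef, CharCore.classInner_sub_left, CharCore.classInner_sub_left, hcc1, hcp, sub_zero,
      CharCore.classInner_irr_self, sub_self]
  obtain ⟨m, a, K, P, Z, hm, hD, hV, hsum, hKP, hmult, -, -, hK0, -⟩ :=
    H.exists_split hf0 (D := 5) (V := 1)
      (by show c 1 * c 1 - c 1 - 1 = _; rw [hc1]; norm_num)
      (by show c u * c u - c u - 1 = _; rw [hu]; norm_num) hfp
  obtain ⟨rfl, rfl, rfl, rfl⟩ : K = 1 ∧ a = 0 ∧ P = 1 ∧ Z = 0 := by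
    by_cases hK : K = 0
    · have := hK0 hK; omega
    · omega
  obtain ⟨τ, hτ⟩ : ∃ τ : IrrCharacter G, (τ : G → ℂ) = f := by
    obtain ⟨τ, hτ⟩ : ∃ τ, m τ ≠ 0 := by
      by_contra h
      push Not at h
      have h1 : f 1 = 5 := by
        show c 1 * c 1 - c 1 - 1 = _; rw [hc1]; norm_num
      rw [hm] at h1
      simp [h] at h1
    refine ⟨τ, ?_⟩
    have hle := Finset.single_le_sum (f := m) (fun i _ => Nat.zero_le _) (Finset.mem_univ τ)
    have hoth : ∀ χ, χ ≠ τ → m χ = 0 := fun χ hχ => by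
      have h2 := Finset.sum_le_sum_of_subset (f := m) (Finset.subset_univ ({χ, τ} : Finset _))
      rw [Finset.sum_pair hχ] at h2
      omega
    rw [hm, Finset.sum_eq_single τ (fun χ _ hχ => by simp [hoth χ hχ]) (by simp),
      show m τ = 1 by omega, Nat.cast_one, one_smul]
  have hfc : classInner f c = 0 := by
    rw [← hτ]
    refine CharCore.classInner_irr_of_ne (χ := τ) (ψ := chi ρ) fun h => ?_
    have := congrFun (congrArg Subtype.val h) 1
    rw [hτ] at this
    change c 1 * c 1 - c 1 - 1 = c 1 at this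
    rw [hc1] at this
    norm_num at this
  have hcc : classInner (c * c) c = 1 := by
    rw [show c * c = f + (c + (prin G : G → ℂ)) by rw [hfdef]; abel,
      CharCore.classInner_add_left, CharCore.classInner_add_left, hfc, zero_add,
      show classInner (prin G : G → ℂ) c = 0 from
        CharCore.classInner_irr_of_ne (χ := prin G) (ψ := chi ρ) (chi_ne_prin ρ).symm, add_zero]
    exact CharCore.classInner_irr_self (chi ρ)
  have hcccc : classInner (c * c) (c * c) = 3 := by
    conv_lhs => arg 2; rw [show c * c = f + (c + (prin G : G → ℂ)) by rw [hfdef]; abel]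
    rw [CharCore.classInner_add_right, CharCore.classInner_add_right, hcc, hcc1]
    have h1 : classInner (c * c) f = 1 := by
      rw [← CharCore.conj_classInner, show c * c = f + (c + (prin G : G → ℂ)) by rw [hfdef]; abel,
        CharCore.classInner_add_right, CharCore.classInner_add_right, hfc, hfp, add_zero,
        add_zero, ← hτ, CharCore.classInner_irr_self, map_one]
    rw [h1]; norm_num
  have hN : (Nat.card G : ℂ) ≠ 0 := by exact_mod_cast Nat.card_pos.ne'
  have key : ∀ (φ θ : G → ℂ) (k : ℂ), classInner φ θ = k →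
      ∑ g, φ g * conj (θ g) = k * (Nat.card G : ℂ) := fun φ θ k h => by
    rw [← h, classInner, mul_comm, ← mul_assoc, mul_inv_cancel₀ hN, one_mul]
  have s1 : ∑ g, c g = 0 := by
    rw [← zero_mul (Nat.card G : ℂ), ← key _ _ _ hcp]
    exact Finset.sum_congr rfl fun g _ => by rw [prin_apply, map_one, mul_one]
  have s2 : ∑ g, c g ^ 2 = (Nat.card G : ℂ) := by
    rw [← one_mul (Nat.card G : ℂ), ← key _ _ _ (CharCore.classInner_irr_self (chi ρ))]
    exact Finset.sum_congr rfl fun g _ => by
      show c g ^ 2 = c g * conj (c g); rw [hR, pow_two]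
  have s3 : ∑ g, c g ^ 3 = (Nat.card G : ℂ) := by
    rw [← one_mul (Nat.card G : ℂ), ← key _ _ _ hcc]
    exact Finset.sum_congr rfl fun g _ => by rw [Pi.mul_apply, hR]; ring
  have s4 : ∑ g, c g ^ 4 = 3 * (Nat.card G : ℂ) := by
    rw [← key _ _ _ hcccc]
    exact Finset.sum_congr rfl fun g _ => by rw [Pi.mul_apply, map_mul, hR]; ring
  obtain ⟨n2, n3, n4, n5, hn2, hn4', hL, hs1, hs2, hs3, hs4⟩ :=
    moments Finset.univ c (i₀ := 1) (Finset.mem_univ _) (fun g _ => (hdata g).2.1)
      (fun g _ => (hdata g).1) (fun g => g ^ 2)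
      (fun g _ h => ⟨Finset.mem_univ _, ((hdata g).2.2.2 h).2⟩) (fun g _ k _ hg hk he => by
        have h6 : ∀ z : G, z ^ 5 = 1 → (z ^ 2) ^ 3 = z := fun z hz => by
          rw [← pow_mul, show 2 * 3 = 5 + 1 from rfl, pow_add, hz, one_mul, pow_one]
        exact (h6 _ ((hdata g).2.2.2 hg).1).symm.trans
          ((congrArg (· ^ 3) he).trans (h6 _ ((hdata k).2.2.2 hk).1)))
  rw [Finset.card_univ, ← Nat.card_eq_fintype_card] at hL
  rw [s1] at hs1
  rw [s2] at hs2
  rw [s3] at hs3
  rw [s4] at hs4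
  rw [hL] at hs2 hs3 hs4
  push_cast at hs2 hs3 hs4
  have e1 : (0 : ℤ) = 6 - 2 * n2 + 2 * n4 + n5 := by
    have : ((0 : ℤ) : ℂ) = ((6 - 2 * n2 + 2 * n4 + n5 : ℤ) : ℂ) := by
      push_cast; linear_combination hs1
    exact_mod_cast this
  have e2 : (2 : ℤ) * (1 + n2 + n3 + n4 + n5) = 18 + 2 * n2 + 2 * n4 + 3 * n5 := by
    exact_mod_cast hs2
  have e3 : (2 : ℤ) * (1 + n2 + n3 + n4 + n5) = 54 - 2 * n2 + 2 * n4 + 4 * n5 := by
    have : ((2 * (1 + n2 + n3 + n4 + n5) : ℤ) : ℂ) =
        ((54 - 2 * n2 + 2 * n4 + 4 * n5 : ℤ) : ℂ) := by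
      push_cast; linear_combination hs3
    exact_mod_cast this
  have e4 : (6 : ℤ) * (1 + n2 + n3 + n4 + n5) = 162 + 2 * n2 + 2 * n4 + 7 * n5 := by
    have : ((6 * (1 + n2 + n3 + n4 + n5) : ℤ) : ℂ) =
        ((162 + 2 * n2 + 2 * n4 + 7 * n5 : ℤ) : ℂ) := by
      push_cast; linear_combination hs4
    exact_mod_cast this
  have hn4 : n4 = 0 := by omega
  refine ⟨by omega, ?_, by rw [← show (τ : G → ℂ) = f from hτ]; exact τ.2, fun g hg => ?_⟩
  swap
  · have h4 : (Finset.univ.filter fun g => c g = 1).card = 0 := hn4'.trans hn4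
    exact Finset.notMem_empty g (Finset.card_eq_zero.mp h4 ▸
      Finset.mem_filter.mpr ⟨Finset.mem_univ g, hg⟩)
  rw [Nat.card_eq_fintype_card, Fintype.card_subtype, show (15 : ℕ) = n2 by omega, ← hn2]
  congr 1
  ext g
  simp only [Finset.mem_filter, Finset.mem_univ, true_and]
  constructor
  · rintro ⟨h2, h1⟩
    exact ((hdata g).2.2.1.mpr h2).resolve_left fun h => h1 ((hdata g).2.1.mp h)
  · intro h
    refine ⟨(hdata g).2.2.1.mp (Or.inr h), fun h1 => ?_⟩
    have h' : (-1 : ℂ) = 3 := h.symm.trans ((hdata g).2.1.mpr h1)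
    norm_num at h'

end Hyp

end Cfsg.Agent.Blocks88.FourDiff
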