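import Cfsg.Agent.Lib.CharClifford.Central
import Cfsg.Agent.S0144
import Mathlib.GroupTheory.Perm.Cycle.Type
import Mathlib.Data.Finite.Perm

/-!
# Perfect groups in dimension three

A normal subgroup of an irreducible perfect linear group of degree three with an invariant line
consists of scalars.
-/

open Module

set_option linter.style.haveILetI false

namespace Cfsg.Agent.Blocks88.FourDiff

variable {G : Type*} [Group G] (hperf : commutator G = ⊤)

include hperf

theorem eq_one_of_solvable {H : Type*} [Group H] [Group.IsSolvable H] (f : G →* H) (g : G) :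
    f g = 1 := by
  have hc : ⁅f.range, f.range⁆ = f.range := by
    conv_rhs => rw [MonoidHom.range_eq_map, ← hperf, commutator_def, Subgroup.map_commutator]
    rw [MonoidHom.range_eq_map]
  have hb : f.range = ⊥ := by
    by_contra hne
    haveI : Nontrivial f.range := (Subgroup.nontrivial_iff_ne_bot _).mpr hne
    refine (Group.IsSolvable.commutator_lt_top_of_nontrivial f.range).ne ?_
    refine Subgroup.map_injective f.range.subtype_injective ?_
    rw [commutator_def, Subgroup.map_commutator, ← MonoidHom.range_eq_map,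
      Subgroup.range_subtype, hc]
  exact Subgroup.mem_bot.mp (hb ▸ ⟨g, rfl⟩)

theorem eq_one_of_comm {H : Type*} [CommGroup H] (f : G →* H) (g : G) : f g = 1 := by
  have hle := Abelianization.commutator_subset_ker f
  rw [hperf] at hle
  exact hle (Subgroup.mem_top g)

theorem eq_top_of_index_le_three [Finite G] (H : Subgroup G) (h : H.index ≤ 3) : H = ⊤ := by
  classical
  haveI : Group.IsSolvable (Equiv.Perm (G ⧸ H)) := by
    have hc : Nat.card (Equiv.Perm (G ⧸ H)) = Nat.factorial H.index := by
      rw [Nat.card_perm, ← Subgroup.index_eq_card]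
    have h0 : H.index ≠ 0 := Subgroup.index_ne_zero_of_finite
    rcases (by omega : H.index = 1 ∨ H.index = 2 ∨ H.index = 3) with e | e | e <;> rw [e] at hc
    · exact S0144.result 2 3 0 0 Nat.prime_two Nat.prime_three (by simpa using hc)
    · exact S0144.result 2 3 1 0 Nat.prime_two Nat.prime_three (by simpa using hc)
    · exact S0144.result 2 3 1 1 Nat.prime_two Nat.prime_three (by simpa [Nat.factorial] using hc)
  refine eq_top_iff.mpr fun g _ => ?_
  have h1 : MulAction.toPermHom G (G ⧸ H) g = 1 := eq_one_of_solvable hperf _ g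
  have h2 := Equiv.ext_iff.mp h1 ((1 : G) : G ⧸ H)
  simp only [MulAction.toPermHom_apply, MulAction.toPerm_apply, Equiv.Perm.one_apply,
    MulAction.Quotient.smul_mk, smul_eq_mul, mul_one] at h2
  rw [eq_comm, QuotientGroup.eq, inv_one, one_mul] at h2
  exact h2

variable [Finite G] (ρ : Representation ℂ G (Fin 3 → ℂ)) [ρ.IsIrreducible]

theorem scalar_of_line (N : Subgroup G) [hN : N.Normal] {v : Fin 3 → ℂ} (hv : v ≠ 0)
    (hline : ∀ n ∈ N, ∃ c : ℂ, ρ n v = c • v) : ∀ n ∈ N, ∃ c : ℂ, ρ n = c • 1 := by
  classical
  choose c hc using fun n : N => hline n n.2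
  set l : G → N → ℂ := fun g n => c ⟨g⁻¹ * n * g, by
    simpa using hN.conj_mem n n.2 g⁻¹⟩ with hl
  have hlg : ∀ g (n : N), ρ (n : G) (ρ g v) = l g n • ρ g v := by
    intro g n
    rw [← Module.End.mul_apply, ← map_mul, show (n : G) * g = g * (g⁻¹ * n * g) by group, map_mul,
      Module.End.mul_apply]
    simp only [hl]
    rw [← map_smul, ← hc]
  let S : Subrepresentation ρ := ⟨Submodule.span ℂ (Set.range fun g => ρ g v), fun g w hw => by
    induction hw using Submodule.span_induction with
    | mem x hx =>
      obtain ⟨h, rfl⟩ := hx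
      exact Submodule.subset_span ⟨g * h, by simp [map_mul]⟩
    | zero => simp
    | add a b _ _ ha hb => rw [map_add]; exact Submodule.add_mem _ ha hb
    | smul k a _ ha => rw [map_smul]; exact Submodule.smul_mem _ _ ha⟩
  have hS : S = ⊤ := by
    refine (IsSimpleOrder.eq_bot_or_eq_top S).resolve_left fun h => hv ?_
    have h1 : v ∈ S.toSubmodule := Submodule.subset_span ⟨1, by simp⟩
    rw [h] at h1
    exact (Submodule.mem_bot ℂ).mp h1
  obtain ⟨t, ht, htspan, htli⟩ := exists_linearIndependent ℂ (Set.range fun g => ρ g v)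
  have htop : Submodule.span ℂ t = ⊤ := by
    rw [htspan]
    exact congrArg Subrepresentation.toSubmodule hS
  let b : Basis t ℂ (Fin 3 → ℂ) := Basis.mk htli (by rw [Subtype.range_coe, htop])
  haveI : Fintype t := FiniteDimensional.fintypeBasisIndex b
  have ht3 : Nat.card t = 3 := by
    rw [Nat.card_eq_fintype_card, ← Module.finrank_eq_card_basis b, finrank_fin_fun]
  choose γ hγ using fun i : t => ht i.2
  have hbi : ∀ i, b i = ρ (γ i) v := fun i => by
    rw [Basis.mk_apply]
    exact (hγ i).symm
  have hmem : ∀ g, ∃ i, l g = l (γ i) := by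
    intro g
    obtain ⟨i, hi⟩ : ∃ i, b.repr (ρ g v) i ≠ 0 := by
      by_contra h
      push Not at h
      refine hv ?_
      have h0 : ρ g v = 0 := b.repr.map_eq_zero_iff.mp (Finsupp.ext h)
      have := congrArg (ρ g⁻¹) h0
      rwa [map_zero, ← Module.End.mul_apply, ← map_mul, inv_mul_cancel, map_one,
        Module.End.one_apply] at this
    refine ⟨i, funext fun n => mul_right_cancel₀ hi ?_⟩
    have h1 : b.repr (ρ (n : G) (ρ g v)) i = l (γ i) n * b.repr (ρ g v) i := by
      conv_lhs => rw [← b.sum_repr (ρ g v)]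
      simp only [map_sum, map_smul, hbi, hlg, smul_smul]
      simp only [← hbi, Basis.repr_self, Finsupp.coe_finsetSum, Finset.sum_apply,
        Finsupp.smul_apply, smul_eq_mul, map_smul]
      rw [Finset.sum_eq_single i]
      · rw [Finsupp.single_eq_same, mul_one, mul_comm]
      · intro k _ hk
        rw [Finsupp.single_eq_of_ne (Ne.symm hk), mul_zero]
      · simp
    rw [hlg, map_smul, Finsupp.smul_apply, smul_eq_mul] at h1
    exact h1
  have hll : ∀ g h (n : N), l (g * h) n = l h ⟨g⁻¹ * n * g, by
      simpa using hN.conj_mem n n.2 g⁻¹⟩ := by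
    intro g h n
    simp only [hl]
    congr 1
    exact Subtype.ext (by group)
  let H : Subgroup G :=
    { carrier := {g | l g = l 1}
      one_mem' := rfl
      mul_mem' := fun {g h} (hg : l g = l 1) (hh : l h = l 1) => funext fun n => by
        rw [hll, congrFun hh, ← hll, mul_one, congrFun hg]
      inv_mem' := fun {g} (hg : l g = l 1) => funext fun n => by
        have h1 := hll g⁻¹ g n
        rw [inv_mul_cancel, congrFun hg] at h1
        rw [h1, ← hll, mul_one] }
  have hidx : H.index ≤ 3 := by
    rw [Subgroup.index_eq_card, ← ht3]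
    have hinj : ∀ g h, l g = l h → g⁻¹ * h ∈ H := fun g h e => funext fun n => by
      have h1 := hll g⁻¹ g n
      rw [inv_mul_cancel] at h1
      rw [hll, ← congrFun e, ← h1]
    choose f hf using hmem
    refine Nat.card_le_card_of_injective (fun q => f q.out) fun q r hqr => ?_
    rw [← QuotientGroup.out_eq' q, ← QuotientGroup.out_eq' r]
    exact QuotientGroup.eq.mpr (hinj _ _ ((hf _).trans ((congrArg (fun i => l (γ i)) hqr).trans
      (hf _).symm)))
  have hH := eq_top_of_index_le_three hperf H hidx
  have hall : ∀ g, l g = l 1 := fun g => (hH.ge (Subgroup.mem_top g) : g ∈ H)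
  intro n hn
  refine ⟨l 1 ⟨n, hn⟩, b.ext fun i => ?_⟩
  rw [LinearMap.smul_apply, Module.End.one_apply, hbi]
  conv_rhs => rw [← hall (γ i)]
  exact hlg (γ i) ⟨n, hn⟩

end Cfsg.Agent.Blocks88.FourDiff
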