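import Cfsg.Agent.Blocks88.FourDiff.Image
import Mathlib.GroupTheory.GroupAction.Quotient
import Cfsg.Agent.S0144

/-!
# The quotient by the kernel of a character of degree three

Under the hypothesis `χ(1) - χ(u) = 4` or `χ(u) = 0` the group has a normal subgroup with simple
quotient of order sixty, and `u` has a centralizer of order four.
-/

open Cfsg Module
open scoped ComplexConjugate

set_option linter.style.haveILetI false
set_option linter.unusedSectionVars false

namespace Cfsg.Agent.Blocks88.FourDiff

namespace Hyp

section Faithful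

variable {G : Type*} [Group G] [Fintype G] {u : G} (H : Hyp G u)
  (ρ : Representation ℂ G (Fin 3 → ℂ)) [ρ.IsIrreducible]
  (hinj : Function.Injective ρ) (hu : ρ.character u = -1)

include H hinj hu

theorem sq_eq_one_of_pow_four {g : G} (h : g ^ 4 = 1) : g ^ 2 = 1 := by
  have hR := H.real ρ hinj hu
  obtain ⟨hv, h1, h2, h5⟩ := real_data H.perfect ρ hinj (hR g)
  rcases hv with e | e | e | e | e
  · exact h2.mp (Or.inl e)
  · exact h2.mp (Or.inr e)
  · exfalso
    have hsq := character_sq H.perfect ρ g
    rw [e, map_zero] at hsq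
    have := (real_data H.perfect ρ hinj (hR (g ^ 2))).2.2.1.mpr (by rw [← pow_mul]; exact h)
    rw [hsq] at this
    norm_num at this
  · exact absurd e ((H.card_eq_sixty ρ hinj hu).2.2.2 g)
  · have h5' := (h5 e).1
    have : g = 1 := by rwa [show (5 : ℕ) = 4 + 1 from rfl, pow_succ, h, one_mul] at h5'
    rw [this, one_pow]

theorem isSimpleGroup_image : IsSimpleGroup G := by
  have h60 := (H.card_eq_sixty ρ hinj hu).1
  haveI : Nontrivial G := Finite.one_lt_card_iff_nontrivial.mp (by rw [h60]; norm_num)
  refine ⟨fun N hN => ?_⟩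
  by_cases hb : N = ⊥
  · exact Or.inl hb
  refine Or.inr ?_
  by_cases h2 : Nat.card N = 2
  · exfalso
    obtain ⟨z, hz, hz1⟩ := (Subgroup.bot_or_exists_ne_one N).resolve_left hb
    have hcen : z ∈ Subgroup.center G := by
      refine Subgroup.mem_center_iff.mpr fun g => ?_
      obtain ⟨a, b, hab, huniv⟩ := Nat.card_eq_two_iff.mp h2
      have hmem : ∀ x : N, x = (1 : N) ∨ x = ⟨z, hz⟩ := by
        intro x
        have h1 := Set.eq_univ_iff_forall.mp huniv x
        have h1' := Set.eq_univ_iff_forall.mp huniv (1 : N)
        have hz' := Set.eq_univ_iff_forall.mp huniv ⟨z, hz⟩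
        simp only [Set.mem_insert_iff, Set.mem_singleton_iff] at h1 h1' hz'
        have hne : (1 : N) ≠ ⟨z, hz⟩ := fun e => hz1 (congrArg Subtype.val e).symm
        rcases h1 with e | e <;> rcases h1' with e' | e' <;> rcases hz' with e'' | e'' <;>
          first
          | exact Or.inl (e.trans e'.symm)
          | exact Or.inr (e.trans e''.symm)
          | exact absurd (e'.trans e''.symm) hne
      have := hmem ⟨g * z * g⁻¹, hN.conj_mem z hz g⟩
      rcases this with e | e
      · exact absurd (conj_eq_one_iff.mp (congrArg Subtype.val e)) hz1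
      · exact mul_inv_eq_iff_eq_mul.mp (congrArg Subtype.val e)
    have hz2 : z ^ 2 = 1 := by
      have := pow_card_eq_one' (G := N) (x := ⟨z, hz⟩)
      rw [h2] at this
      exact congrArg Subtype.val this
    obtain ⟨c, hc⟩ := CharClifford.exists_scalar_of_mem_center ρ hcen
    have hcz : ρ.character z = c * 3 := by
      rw [Representation.character, CharClifford.scalar_eq_of_trace hc]
      simp
    obtain ⟨-, h3, hsq, -⟩ := real_data H.perfect ρ hinj (H.real ρ hinj hu z)
    rcases hsq.mpr hz2 with e | e
    · exact hz1 (h3.mp e)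
    · have hcc : c * c = 1 := by
        have h := congrArg (fun T : (Fin 3 → ℂ) →ₗ[ℂ] Fin 3 → ℂ => T (fun _ => 1) 0)
          (show ρ (z ^ 2) = 1 by rw [hz2, map_one])
        simp only [map_pow, hc, smul_pow, one_pow, LinearMap.smul_apply, Module.End.one_apply,
          Pi.smul_apply, smul_eq_mul, mul_one] at h
        rw [← pow_two]; exact h
      rw [hcz] at e
      rcases mul_self_eq_one_iff.mp hcc with h | h <;> rw [h] at e <;> norm_num at e
  have hidx : N.index ≠ 60 := by
    intro h
    have := N.card_mul_index
    rw [h, h60] at this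
    exact hb (Subgroup.card_eq_one.mp (by omega))
  have hidx' : N.index ≠ 30 := by
    intro h
    have := N.card_mul_index
    rw [h, h60] at this
    omega
  have hdvd : N.index ∣ 60 := h60 ▸ N.index_dvd_card
  haveI := hN
  haveI hsol : Group.IsSolvable (G ⧸ N) := by
    have hc : Nat.card (G ⧸ N) = N.index := (Subgroup.index_eq_card N).symm
    have hmem : N.index ∈ Nat.divisors 60 := Nat.mem_divisors.mpr ⟨hdvd, by norm_num⟩
    rw [show Nat.divisors 60 = {1, 2, 3, 4, 5, 6, 10, 12, 15, 20, 30, 60} by decide] at hmem
    simp only [Finset.mem_insert, Finset.mem_singleton] at hmem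
    rcases hmem with e | e | e | e | e | e | e | e | e | e | e | e <;> rw [e] at hc
    · exact S0144.result 2 3 0 0 Nat.prime_two Nat.prime_three (by simpa using hc)
    · exact S0144.result 2 3 1 0 Nat.prime_two Nat.prime_three (by simpa using hc)
    · exact S0144.result 2 3 0 1 Nat.prime_two Nat.prime_three (by simpa using hc)
    · exact S0144.result 2 3 2 0 Nat.prime_two Nat.prime_three (by simpa using hc)
    · exact S0144.result 2 5 0 1 Nat.prime_two Nat.prime_five (by simpa using hc)
    · exact S0144.result 2 3 1 1 Nat.prime_two Nat.prime_three (by simpa using hc)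
    · exact S0144.result 2 5 1 1 Nat.prime_two Nat.prime_five (by simpa using hc)
    · exact S0144.result 2 3 2 1 Nat.prime_two Nat.prime_three (by simpa using hc)
    · exact S0144.result 3 5 1 1 Nat.prime_three Nat.prime_five (by simpa using hc)
    · exact S0144.result 2 5 2 1 Nat.prime_two Nat.prime_five (by simpa using hc)
    · exact absurd e hidx'
    · exact absurd e hidx
  refine eq_top_iff.mpr fun g _ => ?_
  exact (QuotientGroup.eq_one_iff g).mp (eq_one_of_solvable H.perfect (QuotientGroup.mk' N) g)

theorem card_cls_image :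
    (cls u).card = 15 ∧ Nat.card (Subgroup.centralizer ({u} : Set G)) = 4 := by
  classical
  obtain ⟨h60, -, hf, -⟩ := H.card_eq_sixty ρ hinj hu
  set L := (cls u).card
  set f : G → ℂ := ρ.character * ρ.character - ρ.character - (prin G : G → ℂ) with hfdef
  have hfu : f u = 1 := by
    simp only [hfdef, Pi.sub_apply, Pi.mul_apply, hu, prin_apply]; norm_num
  have hf1 : f 1 = 5 := by
    simp only [hfdef, Pi.sub_apply, Pi.mul_apply, char_one, prin_apply]; norm_num
  have hcardL : (Finset.univ.filter fun x => ConjClasses.mk x = ConjClasses.mk u).card = L :=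
    (CharCore.card_class_eq_index u).trans (card_cls u).symm
  have h3 : 3 ∣ L := by
    refine CharClifford.dvd_of_mul_isIntegral
      (CharClifford.isIntegral_class_mul_div (chi ρ).2 u).neg ?_
    show (L : ℂ) = (3 : ℕ) * -(_ * ρ.character u / ρ.character 1)
    rw [hu, char_one]
    push_cast
    ring_nf
    norm_cast
    convert hcardL.symm
  have h5 : 5 ∣ L := by
    refine CharClifford.dvd_of_mul_isIntegral (CharClifford.isIntegral_class_mul_div hf u) ?_
    rw [hfu, hf1]
    push_cast
    ring_nf
    norm_cast
    convert hcardL.symm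
  have hmul : Nat.card (Subgroup.centralizer ({u} : Set G)) * L = 60 := by
    rw [← h60, show L = (Subgroup.centralizer ({u} : Set G)).index from card_cls u,
      Subgroup.card_mul_index]
  have hge : 3 ≤ Nat.card (Subgroup.centralizer ({u} : Set G)) := by
    have h := CharCore.sum_apply_mul_conj u u
    rw [if_pos (IsConj.refl u)] at h
    let τ : IrrCharacter G := ⟨f, hf⟩
    have hne1 : chi ρ ≠ τ := fun e => by
      have := congrFun (congrArg Subtype.val e) 1
      change ρ.character 1 = f 1 at this
      rw [char_one, hf1] at this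
      norm_num at this
    have hne2 : τ ≠ prin G := fun e => by
      have := congrFun (congrArg Subtype.val e) 1
      change f 1 = 1 at this
      rw [hf1] at this
      norm_num at this
    have hsum : (3 : ℤ) ≤ ∑ χ : IrrCharacter G, ev u χ ^ 2 := by
      refine le_trans (le_of_eq ?_) (Finset.sum_le_sum_of_subset_of_nonneg
        (Finset.subset_univ ({prin G, chi ρ, τ} : Finset (IrrCharacter G)))
        fun _ _ _ => sq_nonneg _)
      have e2 : ev u (chi ρ) = -1 := by
        have := (H.ev_spec (chi ρ)).symm.trans hu
        exact_mod_cast this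
      have e3 : ev u τ = 1 := by
        have := (H.ev_spec τ).symm.trans hfu
        exact_mod_cast this
      rw [Finset.sum_insert (by simp [(chi_ne_prin ρ).symm, hne2.symm]),
        Finset.sum_pair hne1, ev_prin, e2, e3]
      norm_num
    have hcast : ((∑ χ : IrrCharacter G, ev u χ ^ 2 : ℤ) : ℂ) =
        (Nat.card (Subgroup.centralizer ({u} : Set G)) : ℂ) := by
      rw [← h]
      push_cast
      exact Finset.sum_congr rfl fun χ _ => by rw [H.conj_value, ← H.ev_spec, pow_two]
    have hz : (∑ χ : IrrCharacter G, ev u χ ^ 2 : ℤ) =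
        (Nat.card (Subgroup.centralizer ({u} : Set G)) : ℤ) := by exact_mod_cast hcast
    omega
  obtain ⟨k, hk⟩ : 15 ∣ L := Nat.Coprime.mul_dvd_of_dvd_of_dvd (by norm_num) h3 h5
  rw [hk] at hmul ⊢
  have : k = 1 := by
    have h4 : Nat.card (Subgroup.centralizer ({u} : Set G)) * k = 4 := by
      rw [Nat.mul_left_comm] at hmul; omega
    have := Nat.le_mul_of_pos_right (Nat.card (Subgroup.centralizer ({u} : Set G)))
      (show 0 < k by by_contra h; simp [show k = 0 by omega] at h4)
    by_contra hk1
    have h2 : 2 ≤ k := by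
      rcases Nat.eq_zero_or_pos k with rfl | hp
      · simp at h4
      · omega
    have := Nat.mul_le_mul hge h2
    omega
  subst this
  omega

theorem isConj_of_involution {g : G} (h2 : g ^ 2 = 1) (h1 : g ≠ 1) : IsConj u g := by
  classical
  obtain ⟨-, hinv, -, -⟩ := H.card_eq_sixty ρ hinj hu
  have hu2 := H.u_sq ρ hinj hu
  have hsub : cls u ⊆ Finset.univ.filter fun x : G => x ^ 2 = 1 ∧ x ≠ 1 := by
    intro x hx
    refine Finset.mem_filter.mpr ⟨Finset.mem_univ x, ?_, ?_⟩
    · rw [pow_two]; exact H.mul_self_cls ρ hinj hu hx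
    · rintro rfl
      exact H.ne_one (isConj_one_left.mp (mem_cls.mp hx))
  have heq := Finset.eq_of_subset_of_card_le hsub (by
    rw [(H.card_cls_image ρ hinj hu).1, ← hinv, Nat.card_eq_fintype_card, Fintype.card_subtype])
  exact mem_cls.mp (heq.symm ▸ Finset.mem_filter.mpr ⟨Finset.mem_univ g, h2, h1⟩)

end Faithful

end Hyp

/-- What the characters say about the group. -/
structure Data {G : Type*} [Group G] [Finite G] (u : G) (K : Subgroup G) [K.Normal] : Prop where
  notMem : u ∉ K
  sq_mem : u ^ 2 ∈ K
  index : K.index = 60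
  simple : IsSimpleGroup (G ⧸ K)
  four : Nat.card (Subgroup.centralizer ({u} : Set G)) = 4
  star : ∀ g : G, g ∉ K → g ^ 2 ∈ K → IsConj u g
  sq : ∀ g : G, g ^ 4 ∈ K → g ^ 2 ∈ K

/-- The structural consequences of the hypothesis. -/
theorem Hyp.exists_data {G : Type*} [Group G] [Finite G] {u : G} (H : Hyp G u) :
    ∃ (K : Subgroup G) (_ : K.Normal), Data u K := by
  classical
  haveI := Fintype.ofFinite G
  obtain ⟨χ₀, hχ₀1, hχ₀u⟩ := H.exists_three
  obtain ⟨χ₀, n, ρ, hirr, rfl⟩ := χ₀
  obtain rfl : n = 3 := by
    have h := hχ₀1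
    change ρ.character 1 = 3 at h
    rw [Representation.char_one, finrank_fin_fun] at h
    exact_mod_cast h
  haveI := hirr
  set K : Subgroup G := MonoidHom.ker ρ
  haveI : Fintype (G ⧸ K) := Fintype.ofFinite _
  let σ : Representation ℂ (G ⧸ K) (Fin 3 → ℂ) := QuotientGroup.lift K ρ le_rfl
  have hσ : ∀ g : G, σ (QuotientGroup.mk' K g) = ρ g := fun g => rfl
  haveI : σ.IsIrreducible :=
    CharClifford.irreducible_of_comp ρ (QuotientGroup.mk' K) (QuotientGroup.mk'_surjective K) σ hσ
  have hσinj : Function.Injective σ := by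
    rw [injective_iff_map_eq_one]
    intro q hq
    obtain ⟨g, rfl⟩ := QuotientGroup.mk'_surjective K q
    exact (QuotientGroup.eq_one_iff g).mpr ((hσ g).symm.trans hq)
  have hσc : ∀ g : G, σ.character (QuotientGroup.mk' K g) = ρ.character g := fun g => by
    rw [Representation.character, Representation.character, hσ]
  have hρu : ρ.character u = -1 := hχ₀u
  have huK : u ∉ K := fun h => by
    have h1 : ρ u = 1 := h
    rw [Representation.character, h1, LinearMap.trace_one, finrank_fin_fun] at hρu
    norm_num at hρu
  have H' : Hyp (G ⧸ K) (QuotientGroup.mk' K u) :=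
    H.descend _ (QuotientGroup.mk'_surjective K) fun h => huK ((QuotientGroup.eq_one_iff u).mp h)
  have hσu : σ.character (QuotientGroup.mk' K u) = -1 := (hσc u).trans hρu
  obtain ⟨h60, -, hfirr, -⟩ := H'.card_eq_sixty σ hσinj hσu
  obtain ⟨-, hC⟩ := H'.card_cls_image σ hσinj hσu
  have hR : ∀ g, conj (ρ.character g) = ρ.character g := fun g => by
    rw [← hσc]; exact H'.real σ hσinj hσu _
  let c : G → ℂ := ρ.character
  let f : G → ℂ := c * c - c - (prin G : G → ℂ)
  have hfi : IsIrrCharacter G f := by
    have := CharCore.isIrrCharacter_comp_surjective hfirr (QuotientGroup.mk' K)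
      (QuotientGroup.mk'_surjective K)
    convert this using 1
    funext g
    simp only [f, c, Pi.sub_apply, Pi.mul_apply, prin_apply, hσc]
  -- every character of degree three with value `-1` is trivial on `K`
  have htriv : ∀ ξ : IrrCharacter G, (ξ : G → ℂ) 1 = 3 → (ξ : G → ℂ) u = -1 →
      ∀ k ∈ K, (ξ : G → ℂ) k = (ξ : G → ℂ) 1 := by
    intro ξ hξ1 hξu
    obtain ⟨ξ₀, n, ρ', hirr', rfl⟩ := ξ
    obtain rfl : n = 3 := by
      have h := hξ1
      change ρ'.character 1 = 3 at h
      rw [Representation.char_one, finrank_fin_fun] at h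
      exact_mod_cast h
    haveI := hirr'
    change ρ'.character u = -1 at hξu
    set K' : Subgroup G := MonoidHom.ker ρ'
    haveI : Fintype (G ⧸ K') := Fintype.ofFinite _
    let σ' : Representation ℂ (G ⧸ K') (Fin 3 → ℂ) := QuotientGroup.lift K' ρ' le_rfl
    have hσ' : ∀ g : G, σ' (QuotientGroup.mk' K' g) = ρ' g := fun g => rfl
    haveI : σ'.IsIrreducible := CharClifford.irreducible_of_comp ρ' (QuotientGroup.mk' K')
      (QuotientGroup.mk'_surjective K') σ' hσ'
    have hσ'inj : Function.Injective σ' := by
      rw [injective_iff_map_eq_one]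
      intro q hq
      obtain ⟨g, rfl⟩ := QuotientGroup.mk'_surjective K' q
      exact (QuotientGroup.eq_one_iff g).mpr ((hσ' g).symm.trans hq)
    have hσ'c : ∀ g : G, σ'.character (QuotientGroup.mk' K' g) = ρ'.character g := fun g => by
      rw [Representation.character, Representation.character, hσ']
    have huK' : u ∉ K' := fun h => by
      have h1 : ρ' u = 1 := h
      rw [Representation.character, h1, LinearMap.trace_one, finrank_fin_fun] at hξu
      norm_num at hξu
    have H'' : Hyp (G ⧸ K') (QuotientGroup.mk' K' u) :=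
      H.descend _ (QuotientGroup.mk'_surjective K')
        fun h => huK' ((QuotientGroup.eq_one_iff u).mp h)
    have hσ'u : σ'.character (QuotientGroup.mk' K' u) = -1 := (hσ'c u).trans hξu
    have hR' : ∀ g, conj (ρ'.character g) = ρ'.character g := fun g => by
      rw [← hσ'c]; exact H''.real σ' hσ'inj hσ'u _
    intro k hk
    show ρ'.character k = ρ'.character 1
    by_cases hξc : ρ'.character = c
    · rw [hξc]
      show ρ.character k = ρ.character 1
      rw [Representation.character, Representation.character, (hk : ρ k = 1), map_one ρ]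
    let f' : G → ℂ := ρ'.character * ρ'.character - ρ'.character - (prin G : G → ℂ)
    have hf'i : IsIrrCharacter G f' := by
      obtain ⟨-, -, hf'', -⟩ := H''.card_eq_sixty σ' hσ'inj hσ'u
      have := CharCore.isIrrCharacter_comp_surjective hf'' (QuotientGroup.mk' K')
        (QuotientGroup.mk'_surjective K')
      convert this using 1
      funext g
      simp only [f', Pi.sub_apply, Pi.mul_apply, prin_apply, hσ'c]
    have hff : f = f' := by
      by_contra hne
      let χI : IrrCharacter G := Hyp.chi ρ
      let ξI : IrrCharacter G := Hyp.chi ρ'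
      let fI : IrrCharacter G := ⟨f, hfi⟩
      let gI : IrrCharacter G := ⟨f', hf'i⟩
      have hc1 : c 1 = 3 := Hyp.char_one ρ
      have hd1 : ρ'.character 1 = 3 := Hyp.char_one ρ'
      have hdeg : ∀ (a b : IrrCharacter G), (a : G → ℂ) 1 ≠ (b : G → ℂ) 1 →
          classInner (a : G → ℂ) (b : G → ℂ) = 0 := fun a b h =>
        CharCore.classInner_irr_of_ne fun e => h (by rw [e])
      have hnorm : classInner (c * ρ'.character) (c * ρ'.character) = 1 := by
        have e0 : classInner (c * ρ'.character) (c * ρ'.character) =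
            classInner (f + (c + (prin G : G → ℂ))) (f' + (ρ'.character + (prin G : G → ℂ))) := by
          simp only [classInner]
          congr 1
          refine Finset.sum_congr rfl fun g _ => ?_
          simp only [f, f', Pi.mul_apply, Pi.add_apply, Pi.sub_apply, prin_apply, map_mul, map_add,
            map_sub, map_one, hR', show conj (c g) = c g from hR g]
          ring
        rw [e0]
        simp only [CharCore.classInner_add_left, CharCore.classInner_add_right]
        have v1 : classInner f f' = 0 := CharCore.classInner_irr_of_ne (χ := fI) (ψ := gI)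
          fun e => hne (congrArg Subtype.val e)
        have hf1 : f 1 = 5 := by simp only [f, Pi.sub_apply, Pi.mul_apply, hc1, prin_apply]; norm_num
        have hg1 : f' 1 = 5 := by
          simp only [f', Pi.sub_apply, Pi.mul_apply, hd1, prin_apply]; norm_num
        have v2 : classInner f ρ'.character = 0 := hdeg fI ξI (by
          show f 1 ≠ ρ'.character 1; rw [hf1, hd1]; norm_num)
        have v3 : classInner f (prin G : G → ℂ) = 0 := hdeg fI (prin G) (by
          show f 1 ≠ 1; rw [hf1]; norm_num)
        have v4 : classInner c f' = 0 := hdeg χI gI (by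
          show c 1 ≠ f' 1; rw [hc1, hg1]; norm_num)
        have v5 : classInner c ρ'.character = 0 := CharCore.classInner_irr_of_ne (χ := χI) (ψ := ξI)
          fun e => hξc (congrArg Subtype.val e).symm
        have v6 : classInner c (prin G : G → ℂ) = 0 :=
          CharCore.classInner_irr_of_ne (Hyp.chi_ne_prin ρ)
        have v7 : classInner (prin G : G → ℂ) f' = 0 := hdeg (prin G) gI (by
          show (1 : ℂ) ≠ f' 1; rw [hg1]; norm_num)
        have v8 : classInner (prin G : G → ℂ) ρ'.character = 0 :=
          CharCore.classInner_irr_of_ne (ψ := ξI) (Hyp.chi_ne_prin ρ').symm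
        rw [v1, v2, v3, v4, v5, v6, v7, v8, CharCore.classInner_irr_self]
        norm_num
      have hirr9 : IsIrrCharacter G (c * ρ'.character) := CharCore.isIrrCharacter_iff.mpr
        ⟨CharCore.isCharacter_mul (CharCore.irr_isCharacter χI) (CharCore.irr_isCharacter ξI), hnorm⟩
      have h9 : (c * ρ'.character) 1 = 9 := by rw [Pi.mul_apply, hc1, hd1]; norm_num
      have hu9 : (c * ρ'.character) u = 1 := by
        rw [Pi.mul_apply, show c u = -1 from hρu, hξu]; norm_num
      rcases H.val ⟨_, hirr9⟩ (fun e => by
        have := congrFun e 1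
        change (c * ρ'.character) 1 = 1 at this
        rw [h9] at this; norm_num at this) with h | h
      · change (c * ρ'.character) 1 - (c * ρ'.character) u = 4 at h
        rw [h9, hu9] at h; norm_num at h
      · change (c * ρ'.character) u = 0 at h
        rw [hu9] at h; norm_num at h
    have hck : c k = 3 := by
      show ρ.character k = 3
      rw [Representation.character, (hk : ρ k = 1), LinearMap.trace_one, finrank_fin_fun]
      norm_num
    have he := congrFun hff k
    simp only [f, f', Pi.sub_apply, Pi.mul_apply, prin_apply, hck] at he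
    have hval := (real_data H''.perfect σ' hσ'inj
      (g := QuotientGroup.mk' K' k) (by rw [hσ'c]; exact hR' k)).1
    rw [hσ'c] at hval
    rw [Hyp.char_one]
    rcases hval with e | e | e | e | e
    · exact e
    all_goals exfalso
    · rw [e] at he; norm_num at he
    · rw [e] at he; norm_num at he
    · rw [e] at he; norm_num at he
    · have : (5 : ℂ) = 0 := by linear_combination he + e
      norm_num at this
  -- all other characters vanish at `u`
  let inf : IrrCharacter (G ⧸ K) → IrrCharacter G := BlocksDefect.inflate K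
  have hinf : Function.Injective inf := fun a b h => Subtype.ext (funext fun q => by
    obtain ⟨g, rfl⟩ := QuotientGroup.mk'_surjective K q
    exact congrFun (congrArg Subtype.val h) g)
  set img := (Finset.univ : Finset (IrrCharacter (G ⧸ K))).image inf
  have hpos : ∀ χ ∉ img, (0 : ℤ) ≤ ev u χ := by
    intro χ hχ
    have hnp : χ ≠ prin G := fun e => hχ (Finset.mem_image.mpr ⟨prin _, Finset.mem_univ _,
      Subtype.ext (funext fun g => by rw [e]; rfl)⟩)
    rcases H.adm hnp with ⟨-, e⟩ | ⟨e3, e⟩ | ⟨e5, e⟩
    · omega
    · exfalso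
      refine hχ ?_
      obtain ⟨ψ, hψ⟩ := BlocksDefect.exists_inflate_eq K χ (htriv χ
        (by rw [irr_one, e3]; norm_num) (by rw [H.ev_spec, e]; norm_num))
      exact Finset.mem_image.mpr ⟨ψ, Finset.mem_univ ψ, hψ⟩
    · omega
  have hzero : ∀ χ ∉ img, ev u χ = 0 := by
    intro χ hχ
    have h1 := H.sum_degree_mul
    have h2 := H'.sum_degree_mul
    rw [CharCore.finsum_irr] at h1 h2
    have himg : ∑ χ ∈ img, (χ : G → ℂ) 1 * (χ : G → ℂ) u = 0 := by
      rw [Finset.sum_image fun a _ b _ h => hinf h, ← h2]
      exact Finset.sum_congr rfl fun ψ _ => rfl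
    rw [← Finset.sum_add_sum_compl img, himg, zero_add] at h1
    have h3 : ((∑ χ ∈ imgᶜ, (charDegree (χ : G → ℂ) : ℤ) * ev u χ : ℤ) : ℂ) = 0 := by
      push_cast
      rw [← h1]
      exact Finset.sum_congr rfl fun χ _ => by rw [← H.ev_spec, irr_one]
    have h4 : ∑ χ ∈ imgᶜ, (charDegree (χ : G → ℂ) : ℤ) * ev u χ = 0 := by exact_mod_cast h3
    have h5 := (Finset.sum_eq_zero_iff_of_nonneg fun χ hχ =>
      mul_nonneg (Int.natCast_nonneg _) (hpos χ (Finset.mem_compl.mp hχ))).mp h4 χ
        (Finset.mem_compl.mpr hχ)
    rcases mul_eq_zero.mp h5 with h | h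
    · exact absurd (by exact_mod_cast h) (degree_pos χ).ne'
    · exact h
  have hfour : Nat.card (Subgroup.centralizer ({u} : Set G)) = 4 := by
    have h1 := CharCore.sum_apply_mul_conj u u
    have h2 := CharCore.sum_apply_mul_conj (QuotientGroup.mk' K u) (QuotientGroup.mk' K u)
    rw [if_pos (IsConj.refl u)] at h1
    rw [if_pos (IsConj.refl _), hC] at h2
    rw [← Finset.sum_add_sum_compl img, Finset.sum_eq_zero (s := imgᶜ) fun χ hχ => by
        rw [H.ev_spec, hzero χ (Finset.mem_compl.mp hχ)]; simp,
      add_zero, Finset.sum_image fun a _ b _ h => hinf h] at h1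
    have h3 : ((4 : ℕ) : ℂ) = (Nat.card (Subgroup.centralizer ({u} : Set G)) : ℂ) :=
      h2.symm.trans ((Finset.sum_congr rfl fun ψ _ => rfl).trans h1)
    exact_mod_cast h3.symm
  have hidx : K.index = 60 := by rw [Subgroup.index_eq_card, h60]
  refine ⟨K, inferInstance, ⟨huK, ?_, hidx, H'.isSimpleGroup_image σ hσinj hσu, hfour,
    fun g hg hg2 => ?_, fun g hg => ?_⟩⟩
  · have := H'.u_sq σ hσinj hσu
    rw [← map_pow] at this
    exact (QuotientGroup.eq_one_iff _).mp this
  · have hconj : IsConj (QuotientGroup.mk' K u) (QuotientGroup.mk' K g) :=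
      H'.isConj_of_involution σ hσinj hσu
        (by rw [← map_pow]; exact (QuotientGroup.eq_one_iff _).mpr hg2)
        (fun h => hg ((QuotientGroup.eq_one_iff g).mp h))
    set P : Finset G := Finset.univ.filter fun x =>
      IsConj (QuotientGroup.mk' K u) (QuotientGroup.mk' K x)
    have hsub : cls u ⊆ P := fun x hx => Finset.mem_filter.mpr
      ⟨Finset.mem_univ x, MonoidHom.map_isConj (QuotientGroup.mk' K) (mem_cls.mp hx)⟩
    have hP : P.card = Nat.card K * 15 := by
      have h := Nat.card_congr (QuotientGroup.preimageMkEquivSubgroupProdSet K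
        {q : G ⧸ K | IsConj (QuotientGroup.mk' K u) q})
      rw [Nat.card_prod] at h
      rw [← (H'.card_cls_image σ hσinj hσu).1]
      have e1 : Nat.card {q : G ⧸ K | IsConj (QuotientGroup.mk' K u) q} =
          (cls (QuotientGroup.mk' K u)).card := by
        rw [Nat.card_coe_set_eq, Set.ncard_eq_toFinset_card']
        congr 1
        ext q
        simp [mem_cls]
      rw [← e1, ← h, Nat.card_coe_set_eq, Set.ncard_eq_toFinset_card']
      congr 1
      ext x
      simp [P]
    have hL : (cls u).card = Nat.card K * 15 := by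
      have h1 := (Subgroup.centralizer ({u} : Set G)).card_mul_index
      rw [hfour, ← card_cls] at h1
      have h2 := K.card_mul_index
      rw [hidx] at h2
      omega
    have heq := Finset.eq_of_subset_of_card_le hsub (by rw [hP, hL])
    exact mem_cls.mp (heq.symm ▸ Finset.mem_filter.mpr ⟨Finset.mem_univ g, hconj⟩)
  · have := H'.sq_eq_one_of_pow_four σ hσinj hσu (g := QuotientGroup.mk' K g)
      (by rw [← map_pow]; exact (QuotientGroup.eq_one_iff _).mpr hg)
    rw [← map_pow] at this
    exact (QuotientGroup.eq_one_iff _).mp this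

end Cfsg.Agent.Blocks88.FourDiff
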