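import Cfsg.Agent.Blocks88.FourDiff.Quotient
import Cfsg.Agent.Blocks88.FourDiff.Recognition
import Cfsg.Agent.Lib.Involution.IndexTwo
import Cfsg.Agent.Lib.Thompson.Cores

/-!
# From the data to the structure of the group
-/

open Cfsg

set_option linter.style.haveILetI false

namespace Cfsg.Agent.Blocks88.FourDiff

open FPFStructure.Pres

variable {G : Type*} [Group G] [Finite G]

/-- An element squaring into the centralizer of `D` and fixing nothing there inverts `D`. -/
theorem inverts_of_fpf (D : Subgroup G) {g : G} (hn : ∀ d ∈ D, g * d * g⁻¹ ∈ D)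
    (h2 : ∀ d ∈ D, g ^ 2 * d = d * g ^ 2) (hfix : ∀ d ∈ D, g * d = d * g → d = 1) :
    ∀ d ∈ D, g * d * g⁻¹ = d⁻¹ := by
  let f : D → D := fun d => ⟨(d : G)⁻¹ * (g * d * g⁻¹), D.mul_mem (D.inv_mem d.2) (hn d d.2)⟩
  have hinj : Function.Injective f := fun a b h => by
    have h' : (a : G)⁻¹ * (g * a * g⁻¹) = (b : G)⁻¹ * (g * b * g⁻¹) := congrArg Subtype.val h
    have h'' : (b : G) * (a : G)⁻¹ = g * ((b : G) * (a : G)⁻¹) * g⁻¹ := by
      calc (b : G) * (a : G)⁻¹ = b * ((a : G)⁻¹ * (g * a * g⁻¹)) * (g * (a : G)⁻¹ * g⁻¹) := by group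
        _ = _ := by rw [h']; group
    have := hfix _ (D.mul_mem b.2 (D.inv_mem a.2)) (mul_inv_eq_iff_eq_mul.mp h''.symm)
    exact Subtype.ext (mul_inv_eq_one.mp this).symm
  intro d hd
  obtain ⟨e, he⟩ := Finite.surjective_of_injective hinj ⟨d, hd⟩
  have he' : (e : G)⁻¹ * (g * e * g⁻¹) = d := congrArg Subtype.val he
  have hge : g * (g * (e : G) * g⁻¹) * g⁻¹ = e := by
    calc g * (g * (e : G) * g⁻¹) * g⁻¹ = g ^ 2 * e * (g ^ 2)⁻¹ := by rw [pow_two]; group
      _ = e := by rw [h2 e e.2, mul_inv_cancel_right]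
  rw [← he']
  calc g * ((e : G)⁻¹ * (g * e * g⁻¹)) * g⁻¹ = (g * e * g⁻¹)⁻¹ * (g * (g * e * g⁻¹) * g⁻¹) := by
        group
    _ = _ := by rw [hge]; group

variable {u : G} {K : Subgroup G} [hKn : K.Normal] (D : Data u K)

include D

namespace Data

theorem pow_four : u ^ 4 = 1 := by
  have h := pow_card_eq_one' (G := Subgroup.centralizer ({u} : Set G))
    (x := ⟨u, Subgroup.mem_centralizer_singleton_iff.mpr rfl⟩)
  rw [D.four] at h
  exact congrArg Subtype.val h

/-- A Sylow `2`-subgroup through `u` contains a second element over the four group. -/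
theorem exists_second : ∃ (T : Sylow 2 G) (v : G), u ∈ (T : Subgroup G) ∧ v ∈ (T : Subgroup G) ∧
    v ∉ K ∧ v ^ 2 ∈ K ∧ u * v ∉ K ∧ (u * v) ^ 2 ∈ K := by
  haveI : Fact (Nat.Prime 2) := ⟨Nat.prime_two⟩
  have hup : IsPGroup 2 (Subgroup.zpowers u) := by
    intro x
    obtain ⟨i, hi⟩ := x.2
    refine ⟨2, Subtype.ext ?_⟩
    rw [SubmonoidClass.coe_pow, ← hi, ← zpow_natCast, ← zpow_mul, mul_comm, zpow_mul,
      zpow_natCast, show (2 : ℕ) ^ 2 = 4 by norm_num, D.pow_four, one_zpow]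
    rfl
  obtain ⟨T, hT⟩ := hup.exists_le_sylow
  set q : G →* G ⧸ K := QuotientGroup.mk' K
  have h60 : Nat.card (G ⧸ K) = 60 := (Subgroup.index_eq_card K).symm.trans D.index
  obtain ⟨TI, hTI⟩ : ∃ TI : Sylow 2 (G ⧸ K), (TI : Subgroup (G ⧸ K)) = (T : Subgroup G).map q :=
    ⟨T.mapSurjective (QuotientGroup.mk'_surjective K), rfl⟩
  have hcard : Nat.card ((T : Subgroup G).map q) = 4 := by
    rw [← hTI]
    exact SmallGroups.card_sylow_eq (p := 2) (a := 2) (m := 15) (by rw [h60]; norm_num)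
      (by norm_num) TI
  have huT : u ∈ (T : Subgroup G) := hT (Subgroup.mem_zpowers u)
  obtain ⟨w, hw, hw1, hwu⟩ : ∃ w ∈ (T : Subgroup G).map q, w ≠ 1 ∧ w ≠ q u := by
    by_contra h
    push Not at h
    have hsub : ((T : Subgroup G).map q : Set (G ⧸ K)) ⊆ {1, q u} := fun w hw => by
      by_cases h1 : w = 1
      · exact Or.inl h1
      · exact Or.inr (h w hw h1)
    have hle := Set.ncard_le_ncard hsub (Set.toFinite _)
    rw [← Nat.card_coe_set_eq] at hle
    have := (Set.ncard_insert_le (1 : G ⧸ K) {q u}).trans (by rw [Set.ncard_singleton])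
    have e : Nat.card ((T : Subgroup G).map q : Set (G ⧸ K)) = 4 := hcard
    omega
  obtain ⟨v, hv, rfl⟩ := hw
  have hpow : ∀ g ∈ (T : Subgroup G), g ^ 2 ∈ K := by
    intro g hg
    refine D.sq g ((QuotientGroup.eq_one_iff _).mp ?_)
    have h := pow_card_eq_one' (G := ((T : Subgroup G).map q))
      (x := ⟨q g, Subgroup.mem_map_of_mem q hg⟩)
    rw [hcard] at h
    show q (g ^ 4) = 1
    rw [map_pow]
    exact congrArg Subtype.val h
  refine ⟨T, v, huT, hv, fun h => hw1 ((QuotientGroup.eq_one_iff v).mpr h), hpow v hv,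
    fun h => hwu ?_, hpow _ (mul_mem huT hv)⟩
  have h1 : q u * q v = 1 := by rw [← map_mul]; exact (QuotientGroup.eq_one_iff _).mpr h
  have h2 : q u * q u = 1 := by
    rw [← map_mul, ← pow_two]; exact (QuotientGroup.eq_one_iff _).mpr D.sq_mem
  exact mul_left_cancel (h1.trans h2.symm)

theorem mul_notMem {g k : G} (hg : g ∉ K) (hk : k ∈ K) : g * k ∉ K := fun h =>
  hg (by simpa using K.mul_mem h (K.inv_mem hk))

theorem sq_mem_mul {g k : G} (hg2 : g ^ 2 ∈ K) (hk : k ∈ K) : (g * k) ^ 2 ∈ K := by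
  rw [← QuotientGroup.eq_one_iff] at hg2 ⊢
  rw [QuotientGroup.mk_pow, QuotientGroup.mk_mul, (QuotientGroup.eq_one_iff k).mpr hk, mul_one,
    ← QuotientGroup.mk_pow]
  exact hg2

theorem exists_alt_five : ∃ π : G →* alternatingGroup (Fin 5),
    Function.Surjective π ∧ π.ker = K := by
  haveI := D.simple
  obtain ⟨e⟩ := S0494.result (G := G ⧸ K) ((Subgroup.index_eq_card K).symm.trans D.index)
  refine ⟨e.toMonoidHom.comp (QuotientGroup.mk' K),
    e.surjective.comp (QuotientGroup.mk'_surjective K), ?_⟩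
  ext g
  show e (QuotientGroup.mk' K g) = 1 ↔ g ∈ K
  rw [map_eq_one_iff e e.injective]
  exact QuotientGroup.eq_one_iff g

theorem le_kernel_of_odd {N : Subgroup G} [hN : N.Normal] (h : (Nat.card N).Coprime 2) :
    N ≤ K := by
  haveI := D.simple
  have hn : (N.map (QuotientGroup.mk' K)).Normal :=
    hN.map _ (QuotientGroup.mk'_surjective K)
  rcases hn.eq_bot_or_eq_top with h1 | h1
  · rwa [Subgroup.map_eq_bot_iff, QuotientGroup.ker_mk'] at h1
  · exfalso
    have h2 := Subgroup.card_map_dvd N (QuotientGroup.mk' K)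
    rw [h1, Subgroup.card_top, ← Subgroup.index_eq_card, D.index] at h2
    have : Nat.Coprime 60 2 := h.coprime_dvd_left h2
    norm_num at this

theorem case_two (h2 : u ^ 2 = 1) : IsMulCommutative ↥(oddCore G) ∧
    Nonempty (G ⧸ oddCore G ≃* Matrix.ProjectiveSpecialLinearGroup (Fin 2) (ZMod 5)) ∧
    orderOf u = 2 := by
  obtain ⟨T, v, -, -, hvK, hv2, huvK, huv2⟩ := D.exists_second
  have hinv : ∀ g : G, g ∉ K → g ^ 2 ∈ K → g * g = 1 := fun g hg hg2 => by
    obtain ⟨c, rfl⟩ := isConj_iff.mp (D.star g hg hg2)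
    rw [show c * u * c⁻¹ * (c * u * c⁻¹) = c * (u * u) * c⁻¹ by group, ← pow_two, h2]
    group
  have hinvert : ∀ g : G, g ∉ K → g ^ 2 ∈ K → ∀ k ∈ K, g * k * g⁻¹ = k⁻¹ := by
    intro g hg hg2 k hk
    have h1 := hinv (g * k) (D.mul_notMem hg hk) (D.sq_mem_mul hg2 hk)
    rw [inv_eq_of_mul_eq_one_right (hinv g hg hg2)]
    exact eq_inv_of_mul_eq_one_left (by rw [← h1]; simp only [mul_assoc])
  have hcomm : ∀ k ∈ K, k * u = u * k := by
    intro k hk
    have h1 := hinvert (u * v) huvK huv2 k hk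
    rw [show u * v * k * (u * v)⁻¹ = u * (v * k * v⁻¹) * u⁻¹ by group,
      hinvert v hvK hv2 k hk, hinvert u D.notMem D.sq_mem _ (K.inv_mem hk), inv_inv] at h1
    have h3 := hinvert u D.notMem D.sq_mem k hk
    rw [← h1] at h3
    exact (mul_inv_eq_iff_eq_mul.mp h3).symm
  have huv : v * u = u * v := by
    have h1 := hinv _ huvK huv2
    have hu' : u * u = 1 := by rw [← pow_two]; exact h2
    calc v * u = (u * u) * (v * u) * (v * v) := by rw [hu', hinv v hvK hv2, one_mul, mul_one]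
      _ = u * (u * v * (u * v)) * v := by simp only [mul_assoc]
      _ = u * v := by rw [h1, mul_one]
  set C := Subgroup.centralizer ({u} : Set G)
  let r : Fin 3 → G := ![1, u, v]
  have hrC : ∀ i, r i ∈ C := by
    intro i
    fin_cases i <;> simp only [r, C] <;> refine Subgroup.mem_centralizer_singleton_iff.mpr ?_
    · simp
    · rfl
    · simpa using huv
  let φ : Fin 3 × K → C := fun p => ⟨r p.1 * p.2, C.mul_mem (hrC p.1)
    (Subgroup.mem_centralizer_singleton_iff.mpr (hcomm _ p.2.2))⟩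
  have hφ : Function.Injective φ := by
    rintro ⟨i, a⟩ ⟨j, b⟩ h
    have h' : r i * (a : G) = r j * (b : G) := congrArg Subtype.val h
    have hij : (r j)⁻¹ * r i ∈ K := by
      have : (r j)⁻¹ * r i = (b : G) * (a : G)⁻¹ := by
        rw [eq_mul_inv_iff_mul_eq, mul_assoc, h', inv_mul_cancel_left]
      rw [this]; exact K.mul_mem b.2 (K.inv_mem a.2)
    have huvK' : u⁻¹ * v ∉ K := by
      rwa [inv_eq_of_mul_eq_one_right (show u * u = 1 by rw [← pow_two]; exact h2)]
    have : i = j := by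
      fin_cases i <;> fin_cases j <;> simp [r] at hij ⊢
      · exact D.notMem hij
      · exact hvK hij
      · exact D.notMem hij
      · exact huvK' (by simpa using K.inv_mem hij)
      · exact hvK hij
      · exact huvK' hij
    subst this
    exact Prod.ext rfl (Subtype.ext (mul_left_cancel h'))
  have hK : K = ⊥ := by
    refine Subgroup.card_eq_one.mp ?_
    have := Nat.card_le_card_of_injective φ hφ
    rw [Nat.card_prod, Nat.card_fin, show Nat.card C = 4 from D.four] at this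
    have : 0 < Nat.card K := Nat.card_pos
    omega
  have hodd : oddCore G = ⊥ := by
    refine le_bot_iff.mp (sSup_le ?_)
    rintro N ⟨hN, hc⟩
    haveI := hN
    exact hK ▸ D.le_kernel_of_odd hc
  refine ⟨by rw [hodd]; infer_instance, ?_, ?_⟩
  · obtain ⟨π, hπ, hker⟩ := D.exists_alt_five
    obtain ⟨e⟩ := psl25_equiv_alt5
    exact ⟨((QuotientGroup.quotientMulEquivOfEq (hodd.trans (hK.symm.trans hker.symm))).trans
      (QuotientGroup.quotientKerEquivOfSurjective π hπ)).trans e.symm⟩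
  · exact orderOf_eq_prime h2 fun h => D.notMem (h ▸ K.one_mem)

theorem case_four (h2 : u ^ 2 ≠ 1) : IsMulCommutative ↥(oddCore G) ∧
    Nonempty (G ⧸ oddCore G ≃* Matrix.SpecialLinearGroup (Fin 2) (ZMod 5)) ∧ orderOf u = 4 := by
  classical
  haveI : Fact (Nat.Prime 2) := ⟨Nat.prime_two⟩
  obtain ⟨T, v, huT, hvT, hvK, hv2, huvK, huv2⟩ := D.exists_second
  set z := u ^ 2 with hz
  have hz2 : z ^ 2 = 1 := by rw [hz, ← pow_mul]; exact D.pow_four
  have hord : orderOf u = 4 := orderOf_eq_prime_pow (p := 2) (n := 1) h2 D.pow_four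
  have hCu : ∀ x : G, x * u = u * x → x = 1 ∨ x = u ∨ x = z ∨ x = u * z := by
    intro x hx
    have hle : Subgroup.zpowers u ≤ Subgroup.centralizer ({u} : Set G) :=
      Subgroup.zpowers_le.mpr (Subgroup.mem_centralizer_singleton_iff.mpr rfl)
    have heq := Subgroup.eq_of_le_of_card_ge hle (by rw [Nat.card_zpowers, hord, D.four])
    have hmem : x ∈ Subgroup.zpowers u := heq.symm ▸ Subgroup.mem_centralizer_singleton_iff.mpr hx
    rw [← mem_powers_iff_mem_zpowers, mem_powers_iff_mem_range_orderOf, Finset.mem_image] at hmem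
    obtain ⟨i, hi, rfl⟩ := hmem
    rw [hord, Finset.mem_range] at hi
    rcases (by omega : i = 0 ∨ i = 1 ∨ i = 2 ∨ i = 3) with rfl | rfl | rfl | rfl
    · exact Or.inl (pow_zero u)
    · exact Or.inr (Or.inl (pow_one u))
    · exact Or.inr (Or.inr (Or.inl rfl))
    · exact Or.inr (Or.inr (Or.inr (by rw [hz, ← pow_succ'])))
  have hfixu : ∀ k ∈ K, k * u = u * k → k = 1 ∨ k = z := by
    intro k hk hku
    rcases hCu k hku with h | h | h | h
    · exact Or.inl h
    · exact absurd (h ▸ hk) D.notMem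
    · exact Or.inr h
    · exact absurd (h ▸ hk) (D.mul_notMem D.notMem D.sq_mem)
  have hfix : ∀ g : G, g ∉ K → g ^ 2 ∈ K → ∀ k ∈ K, k * g = g * k → k = 1 ∨ k = g ^ 2 := by
    intro g hg hg2 k hk hkg
    obtain ⟨c, rfl⟩ := isConj_iff.mp (D.star g hg hg2)
    have h1 : c⁻¹ * k * c ∈ K := by simpa using hKn.conj_mem k hk c⁻¹
    have h3 : c⁻¹ * k * c * u = u * (c⁻¹ * k * c) := by
      calc c⁻¹ * k * c * u = c⁻¹ * (k * (c * u * c⁻¹)) * c := by group
        _ = c⁻¹ * (c * u * c⁻¹ * k) * c := by rw [hkg]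
        _ = _ := by group
    rcases hfixu _ h1 h3 with h | h
    · left
      calc k = c * (c⁻¹ * k * c) * c⁻¹ := by group
        _ = 1 := by rw [h]; group
    · right
      calc k = c * (c⁻¹ * k * c) * c⁻¹ := by group
        _ = _ := by rw [h, hz, ← conj_pow]
  have hg2ne : ∀ g : G, g ∉ K → g ^ 2 ∈ K → g ^ 2 ≠ 1 := by
    intro g hg hg2 h
    obtain ⟨c, rfl⟩ := isConj_iff.mp (D.star g hg hg2)
    rw [conj_pow, conj_eq_one_iff] at h
    exact h2 h
  -- `z` is central in `T`
  have hzT : ∀ t ∈ (T : Subgroup G), z * t = t * z := by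
    haveI : Nontrivial (T : Subgroup G) :=
      ⟨⟨⟨u, huT⟩, 1, fun e => D.notMem (by
        have h : u = 1 := congrArg Subtype.val e
        rw [h]
        exact K.one_mem)⟩⟩
    haveI := T.isPGroup'.center_nontrivial
    obtain ⟨⟨⟨x, hxT⟩, hxc⟩, hx1⟩ := exists_ne (1 : Subgroup.center (T : Subgroup G))
    have hc : ∀ t ∈ (T : Subgroup G), t * x = x * t := fun t ht =>
      congrArg Subtype.val (Subgroup.mem_center_iff.mp hxc ⟨t, ht⟩)
    have hx : x ≠ 1 := fun h => hx1 (Subtype.ext (Subtype.ext h))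
    have hnot : ∀ y : G, y ∉ K → y * u = u * y → v * y ≠ y * v := by
      intro y hy hyu hvy
      -- then `v` centralizes `u`
      have hcu : v * u = u * v := by
        rcases hCu y hyu with h | h | h | h
        · exact absurd (h ▸ K.one_mem) hy
        · rwa [h] at hvy
        · exact absurd (h ▸ D.sq_mem) hy
        · have h3 : y ^ 3 = u := by
            rw [h, hz, ← pow_succ', ← pow_mul, show (2 + 1) * 3 = 4 * 2 + 1 from rfl, pow_succ,
              pow_mul, D.pow_four, one_pow, one_mul]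
          rw [← h3]
          exact (Commute.pow_right hvy 3).eq
      rcases hCu v hcu with h | h | h | h
      · exact hvK (h ▸ K.one_mem)
      · exact huvK (by rw [h, ← pow_two]; exact D.sq_mem)
      · exact hvK (h ▸ D.sq_mem)
      · refine huvK ?_
        rw [h, ← mul_assoc, ← pow_two]
        exact K.mul_mem D.sq_mem D.sq_mem
    rcases hCu x (hc u huT).symm with h | h | h | h
    · exact absurd h hx
    · exact absurd (hc v hvT) (hnot x (h ▸ D.notMem) (hc u huT).symm)
    · exact fun t ht => h ▸ (hc t ht).symm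
    · exact absurd (hc v hvT) (hnot x (h ▸ D.mul_notMem D.notMem D.sq_mem) (hc u huT).symm)
  have hsqz : ∀ g ∈ (T : Subgroup G), g ∉ K → g ^ 2 ∈ K → g ^ 2 = z := fun g hgT hg hg2 =>
    ((hfix g hg hg2 z D.sq_mem (hzT g hgT)).resolve_left h2).symm
  have hTK : ∀ q ∈ (T : Subgroup G) ⊓ K, q = 1 ∨ q = z := by
    rintro q ⟨hqT, hqK⟩
    have hinv : ∀ g ∈ (T : Subgroup G), g ∉ K → g ^ 2 ∈ K → g⁻¹ * q * g = q⁻¹ := by
      intro g hgT hg hg2
      have h1 := hsqz (g * q) (mul_mem hgT hqT) (D.mul_notMem hg hqK) (D.sq_mem_mul hg2 hqK)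
      rw [← hsqz g hgT hg hg2, pow_two, pow_two] at h1
      have h3 : q * g * q = g := by
        have h4 : g * (q * g * q) = g * g := by simpa only [mul_assoc] using h1
        exact mul_left_cancel h4
      calc g⁻¹ * q * g = g⁻¹ * (q * g * q) * q⁻¹ := by group
        _ = q⁻¹ := by rw [h3, inv_mul_cancel, one_mul]
    have hu := hinv u huT D.notMem D.sq_mem
    have hv := hinv v hvT hvK hv2
    have huv := hinv (u * v) (mul_mem huT hvT) huvK huv2
    have hq : q = q⁻¹ := by
      rw [show (u * v)⁻¹ * q * (u * v) = v⁻¹ * (u⁻¹ * q * u) * v by group, hu,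
        show v⁻¹ * q⁻¹ * v = (v⁻¹ * q * v)⁻¹ by group, hv, inv_inv] at huv
      exact huv
    refine hfixu q hqK ?_
    rw [← hq] at hu
    calc q * u = u * (u⁻¹ * q * u) := by group
      _ = u * q := by rw [hu]
  -- the Sylow subgroup of `K`
  have hK2 : ¬ 4 ∣ Nat.card K := by
    intro h4
    obtain ⟨Q⟩ : Nonempty (Sylow 2 K) := inferInstance
    have hcard : Nat.card ((T : Subgroup G) ⊓ K : Subgroup G) ≤ 2 := by
      have hsub : (((T : Subgroup G) ⊓ K : Subgroup G) : Set G) ⊆ {1, z} := hTK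
      have := (Set.ncard_le_ncard hsub (Set.toFinite _)).trans
        ((Set.ncard_insert_le _ _).trans (by rw [Set.ncard_singleton]))
      rw [← Nat.card_coe_set_eq] at this
      exact this
    -- a subgroup of `K` of order four lies in a conjugate of `T`
    obtain ⟨R, hR⟩ := Sylow.exists_subgroup_card_pow_prime (G := K) 2 (n := 2) (by simpa using h4)
    have hRp : IsPGroup 2 (R.map K.subtype) :=
      (IsPGroup.of_card hR).map K.subtype
    obtain ⟨T', hT'⟩ := hRp.exists_le_sylow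
    obtain ⟨g, hg⟩ := MulAction.exists_smul_eq G T' T
    have hmap : (R.map K.subtype).map (MulAut.conj g).toMonoidHom ≤ (T : Subgroup G) ⊓ K := by
      rintro _ ⟨x, hx, rfl⟩
      refine ⟨?_, ?_⟩
      · rw [← hg]
        exact ⟨x, hT' hx, rfl⟩
      · obtain ⟨y, -, rfl⟩ := hx
        exact hKn.conj_mem _ y.2 g
    have := (Subgroup.card_le_of_le hmap).trans hcard
    rw [Subgroup.card_map_of_injective (MulAut.conj g).injective,
      Subgroup.card_map_of_injective K.subtype_injective, hR] at this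
    norm_num at this
  have hzne : z ≠ 1 := h2
  have hKeven : 2 ∣ Nat.card K := by
    have := orderOf_dvd_natCard (⟨z, D.sq_mem⟩ : K)
    rwa [Subgroup.orderOf_mk, orderOf_eq_prime hz2 hzne] at this
  obtain ⟨Q⟩ : Nonempty (Sylow 2 K) := inferInstance
  haveI : IsCyclic (Q : Subgroup K) := by
    refine isCyclic_of_prime_card (p := 2) ?_
    obtain ⟨n, hn⟩ := IsPGroup.iff_card.mp Q.isPGroup'
    have hdvd := Q.dvd_card_of_dvd_card hKeven
    rw [hn] at hdvd ⊢
    have hn1 : n ≠ 0 := fun h => by rw [h] at hdvd; norm_num at hdvd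
    have hn2 : n < 2 := by
      by_contra hge
      exact hK2 (((show (4 : ℕ) = 2 ^ 2 by norm_num) ▸ pow_dvd_pow 2 (not_lt.mp hge)).trans
        (hn ▸ Subgroup.card_subgroup_dvd_card (Q : Subgroup K)))
    rw [show n = 1 by omega, pow_one]
  obtain ⟨H, hH⟩ := Involution.exists_index_two_of_cyclic_sylow (even_iff_two_dvd.mpr hKeven) Q
    inferInstance
  set h := Nat.card H
  have hhodd : ¬ 2 ∣ h := by
    intro h'
    refine hK2 ?_
    rw [← H.card_mul_index, hH]
    exact mul_dvd_mul_right h' 2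
  have hsqH : ∀ x : K, x ^ 2 ∈ H := fun x => by
    haveI := Subgroup.normal_of_index_eq_two hH
    have := pow_card_eq_one' (G := K ⧸ H) (x := (x : K ⧸ H))
    rwa [← Subgroup.index_eq_card, hH, ← QuotientGroup.mk_pow, QuotientGroup.eq_one_iff] at this
  have hodd_mem : ∀ (x : K) (n : ℕ), ¬ 2 ∣ n → x ^ n = 1 → x ∈ H := by
    intro x n hn hx
    obtain ⟨j, rfl⟩ : ∃ j, n = 2 * j + 1 := ⟨n / 2, by omega⟩
    rw [pow_succ, pow_mul] at hx
    rw [eq_inv_of_mul_eq_one_right hx]
    exact H.inv_mem (H.pow_mem (hsqH x) j)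
  set O := H.map K.subtype with hO
  have hOK : O ≤ K := Subgroup.map_subtype_le H
  have hOcard : Nat.card O = h := Subgroup.card_map_of_injective K.subtype_injective
  haveI hOn : O.Normal := by
    refine ⟨fun x hx g => ?_⟩
    obtain ⟨y, hy, rfl⟩ := hx
    refine ⟨⟨g * (y : G) * g⁻¹, hKn.conj_mem _ y.2 g⟩, hodd_mem _ h hhodd (Subtype.ext ?_), rfl⟩
    have hp : (y : G) ^ h = 1 := congrArg (fun a : H => ((a : K) : G))
      (pow_card_eq_one' (G := H) (x := ⟨y, hy⟩))
    rw [SubmonoidClass.coe_pow, conj_pow, hp]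
    simp
  have hzO : z ∉ O := by
    intro hzO
    have := orderOf_dvd_natCard (⟨z, hzO⟩ : O)
    rw [Subgroup.orderOf_mk, orderOf_eq_prime hz2 hzne, hOcard] at this
    exact hhodd this
  have hKsplit : ∀ k ∈ K, k ∈ O ∨ k * z ∈ O := by
    intro k hk
    by_cases hkH : (⟨k, hk⟩ : K) ∈ H
    · exact Or.inl ⟨_, hkH, rfl⟩
    · refine Or.inr ⟨⟨k, hk⟩ * ⟨z, D.sq_mem⟩, ?_, rfl⟩
      rw [SetLike.mem_coe, Subgroup.mul_mem_iff_of_index_two hH]
      exact ⟨fun a => absurd a hkH, fun b => absurd ⟨_, b, rfl⟩ hzO⟩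
  -- `O` is abelian
  have hnorm : ∀ g : G, ∀ d ∈ O, g * d * g⁻¹ ∈ O := fun g d hd => hOn.conj_mem d hd g
  set D₀ := O ⊓ Subgroup.centralizer ({z} : Set G) with hD₀
  have hinvD : ∀ g ∈ (T : Subgroup G), g ∉ K → g ^ 2 ∈ K → ∀ d ∈ D₀, g * d * g⁻¹ = d⁻¹ := by
    intro g hgT hg hg2
    refine inverts_of_fpf D₀ (fun d hd => ?_) (fun d hd => ?_) fun d hd hgd => ?_
    · refine ⟨hnorm g d hd.1, Subgroup.mem_centralizer_singleton_iff.mpr ?_⟩
      have h1 : d * z = z * d := Subgroup.mem_centralizer_singleton_iff.mp hd.2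
      have h3 := hzT g hgT
      have hzg : Commute z g := h3
      have hzd : Commute z d := h1.symm
      exact (((hzg.mul_right hzd).mul_right hzg.inv_right)).eq.symm
    · rw [hsqz g hgT hg hg2]
      exact (Subgroup.mem_centralizer_singleton_iff.mp hd.2).symm
    · refine (hfix g hg hg2 d (hOK hd.1) hgd.symm).resolve_right fun e => hzO ?_
      rw [← hsqz g hgT hg hg2, ← e]
      exact hd.1
  have hD₀bot : ∀ d ∈ D₀, d = 1 := by
    intro d hd
    have h1 := hinvD (u * v) (mul_mem huT hvT) huvK huv2 d hd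
    rw [show u * v * d * (u * v)⁻¹ = u * (v * d * v⁻¹) * u⁻¹ by group,
      hinvD v hvT hvK hv2 d hd, hinvD u huT D.notMem D.sq_mem _ (D₀.inv_mem hd), inv_inv] at h1
    have h3 : d ^ 2 = 1 := by rw [pow_two]; nth_rw 1 [h1]; exact inv_mul_cancel d
    refine congrArg Subtype.val ((powCoprime (G := O) (n := 2) ?_).injective
      (a₁ := (⟨d, hd.1⟩ : O)) (a₂ := 1) (Subtype.ext ?_))
    · rw [hOcard, Nat.coprime_comm]; exact Nat.prime_two.coprime_iff_not_dvd.mpr hhodd
    · simpa [powCoprime] using h3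
  have hzinv : ∀ d ∈ O, z * d * z⁻¹ = d⁻¹ := inverts_of_fpf O (hnorm z)
    (fun d _ => by rw [hz2, one_mul, mul_one]) fun d hd hzd =>
      hD₀bot d ⟨hd, Subgroup.mem_centralizer_singleton_iff.mpr hzd.symm⟩
  have hOab : ∀ a ∈ O, ∀ b ∈ O, a * b = b * a := by
    intro a ha b hb
    have h1 := hzinv (a * b) (O.mul_mem ha hb)
    rw [show z * (a * b) * z⁻¹ = z * a * z⁻¹ * (z * b * z⁻¹) by group, hzinv a ha, hzinv b hb,
      ← mul_inv_rev, inv_inj] at h1
    exact h1.symm
  have hodd : oddCore G = O := by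
    refine le_antisymm (sSup_le ?_) (Thompson.le_pPrimeCore hOn ?_)
    · rintro N ⟨hN, hc⟩
      haveI := hN
      intro x hx
      refine ⟨⟨x, D.le_kernel_of_odd hc hx⟩, hodd_mem _ (Nat.card N)
        (Nat.prime_two.coprime_iff_not_dvd.mp hc.symm) (Subtype.ext ?_), rfl⟩
      rw [SubmonoidClass.coe_pow]
      exact congrArg Subtype.val (pow_card_eq_one' (G := N) (x := ⟨x, hx⟩))
    · rw [hOcard, Nat.coprime_comm]; exact Nat.prime_two.coprime_iff_not_dvd.mpr hhodd
  refine ⟨⟨⟨fun a b => Subtype.ext (hOab a (hodd.le a.2) b (hodd.le b.2))⟩⟩, ?_, hord⟩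
  -- the quotient
  obtain ⟨π, hπ, hker⟩ := D.exists_alt_five
  let p : G →* G ⧸ O := QuotientGroup.mk' O
  have hmem : ∀ k ∈ K, p k = 1 ∨ p k = p z := by
    intro k hk
    rcases hKsplit k hk with e | e
    · exact Or.inl ((QuotientGroup.eq_one_iff k).mpr e)
    · refine Or.inr ?_
      have h1 : p k * p z = 1 := by rw [← map_mul]; exact (QuotientGroup.eq_one_iff _).mpr e
      have h2' : p z * p z = 1 := by rw [← map_mul, ← pow_two, hz2, map_one]
      exact mul_right_cancel (h1.trans h2'.symm)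
  have hzcen : ∀ g : G, p z * p g = p g * p z := by
    intro g
    rcases hmem (g * z * g⁻¹) (hKn.conj_mem z D.sq_mem g) with e | e
    · exfalso
      have := (QuotientGroup.eq_one_iff _).mp e
      exact hzO (by simpa [mul_assoc] using hOn.conj_mem _ this g⁻¹)
    · rw [map_mul, map_mul, map_inv, mul_inv_eq_iff_eq_mul] at e
      exact e.symm
  have hzp : p z * p z = 1 := by rw [← map_mul, ← pow_two, hz2, map_one]
  obtain ⟨x₀, hx₀⟩ := hπ x5
  obtain ⟨y₀, hy₀⟩ := hπ y5
  obtain ⟨x, hx, hx3⟩ : ∃ x : G, π x = x5 ∧ p x * p x * p x = 1 := by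
    have hk : x₀ * x₀ * x₀ ∈ K := by
      rw [← hker, MonoidHom.mem_ker, map_mul, map_mul, hx₀, rels5.cube]
    rcases hmem _ hk with e | e
    · exact ⟨x₀, hx₀, by rw [← map_mul, ← map_mul]; exact e⟩
    · refine ⟨x₀ * z, by rw [map_mul, hx₀, show π z = 1 from hker.ge D.sq_mem, mul_one], ?_⟩
      have hc : Commute (p x₀) (p z) := (hzcen x₀).symm
      rw [map_mul, ← pow_two, ← pow_succ, hc.mul_pow, pow_succ, pow_two, ← map_mul, ← map_mul, e,
        pow_succ, pow_two, hzp, one_mul, hzp]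
  obtain ⟨y, hy, hy5⟩ : ∃ y : G, π y = y5 ∧ p y * p y * p y * p y * p y = 1 := by
    have hk : y₀ * y₀ * y₀ * y₀ * y₀ ∈ K := by
      rw [← hker, MonoidHom.mem_ker, map_mul, map_mul, map_mul, map_mul, hy₀, rels5.five]
    rcases hmem _ hk with e | e
    · exact ⟨y₀, hy₀, by simpa only [map_mul] using e⟩
    · refine ⟨y₀ * z, by rw [map_mul, hy₀, show π z = 1 from hker.ge D.sq_mem, mul_one], ?_⟩
      have hc : Commute (p y₀) (p z) := (hzcen y₀).symm
      simp only [map_mul] at e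
      rw [map_mul, ← pow_two, ← pow_succ, ← pow_succ, ← pow_succ, hc.mul_pow,
        pow_succ, pow_succ, pow_succ, pow_two, e, pow_succ, pow_succ, pow_succ, pow_two, hzp,
        one_mul, hzp, one_mul, hzp]
  have hxy : p x * p y * (p x * p y) = p z := by
    have hK1 : x * y ∉ K := by
      rw [← hker, MonoidHom.mem_ker, map_mul, hx, hy]
      decide +kernel
    have hK2' : (x * y) ^ 2 ∈ K := by
      rw [← hker, MonoidHom.mem_ker, pow_two, map_mul, map_mul, hx, hy, rels5.sq]
    rw [← map_mul, ← map_mul, ← pow_two]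
    refine (hmem _ hK2').resolve_left fun e => hg2ne _ hK1 hK2' ?_
    have hmemO : (x * y) ^ 2 ∈ O := (QuotientGroup.eq_one_iff _).mp e
    obtain ⟨c, hc⟩ := isConj_iff.mp (D.star _ hK1 hK2')
    rw [← hc, conj_pow] at hmemO
    exact absurd (by simpa [mul_assoc, hz] using hOn.conj_mem _ hmemO c⁻¹) hzO
  have hR : Rels (p x) (p y) (p z) 2 :=
    ⟨hx3, hy5, hzcen x, hzcen y, hxy, by rw [pow_two]; exact hzp⟩
  have hgen : Subgroup.closure ({p x, p y} : Set (G ⧸ O)) = ⊤ := by
    set S := Subgroup.closure ({p x, p y} : Set (G ⧸ O))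
    have hxS : p x ∈ S := Subgroup.subset_closure (Set.mem_insert _ _)
    have hyS : p y ∈ S := Subgroup.subset_closure (Set.mem_insert_of_mem _ rfl)
    have hzS : p z ∈ S := hxy ▸ S.mul_mem (S.mul_mem hxS hyS) (S.mul_mem hxS hyS)
    refine eq_top_iff.mpr fun q _ => ?_
    obtain ⟨g, rfl⟩ := QuotientGroup.mk'_surjective O q
    have hmap : (⊤ : Subgroup (alternatingGroup (Fin 5))) ≤ (Subgroup.comap p S).map π := by
      rw [← gen5, Subgroup.closure_le]
      rintro a (rfl | rfl)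
      · exact ⟨x, hxS, hx⟩
      · exact ⟨y, hyS, hy⟩
    obtain ⟨w, hw, hwg⟩ := hmap (Subgroup.mem_top (π g))
    have hgw : g * w⁻¹ ∈ K := by
      rw [← hker, MonoidHom.mem_ker, map_mul, map_inv, hwg, mul_inv_cancel]
    have hgwS : p (g * w⁻¹) ∈ S := by
      rcases hmem _ hgw with e | e <;> rw [e]
      exacts [S.one_mem, hzS]
    have : p (g * w⁻¹) * p w ∈ S := S.mul_mem hgwS hw
    rwa [← map_mul, inv_mul_cancel_right] at this
  have hcard : Nat.card (G ⧸ O) = 12 * (2 * 5) := by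
    rw [← Subgroup.index_eq_card]
    have h1 := O.card_mul_index
    have h3 := K.card_mul_index
    have h4 := H.card_mul_index
    rw [hH] at h4
    rw [D.index] at h3
    rw [hOcard] at h1
    have hp : 0 < h := Nat.card_pos
    refine Nat.eq_of_mul_eq_mul_left hp (h1.trans ?_)
    rw [← h3, ← h4]
    ring
  obtain ⟨e⟩ := nonempty_equiv_of_rels two_pos hR relsS hgen genS hcard card_sl25
  exact ⟨(QuotientGroup.quotientMulEquivOfEq hodd).trans e⟩

end Data

end Cfsg.Agent.Blocks88.FourDiff
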