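import Cfsg.Agent.Blocks88.FourDiff.Arc
import Cfsg.Agent.Blocks88.FourDiff.Line
import Mathlib.RingTheory.RootsOfUnity.Complex
import Cfsg.Agent.BlkChar.DegreeThree
import Mathlib.Analysis.SpecialFunctions.Trigonometric.Bounds

/-!
# Real character values in degree three

In a perfect group with a faithful irreducible representation of degree three, an element with a
real character value has order at most five and value `3`, `-1`, `0`, `1` or a root of
`X² - X - 1`.
-/

open Module
open scoped ComplexConjugate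

set_option linter.style.haveILetI false

namespace Cfsg.Agent.Blocks88.FourDiff

variable {G : Type*} [Group G] [Finite G] (hperf : commutator G = ⊤)
  (ρ : Representation ℂ G (Fin 3 → ℂ))

include hperf

theorem exists_eigen (g : G) :
    ∃ (b : Basis (Fin 3) ℂ (Fin 3 → ℂ)) (μ : Fin 3 → ℂ),
      (∀ i, ρ g (b i) = μ i • b i) ∧ (∀ i, μ i * conj (μ i) = 1) ∧
        (∀ m : ℕ, ρ.character (g ^ m) = μ 0 ^ m + μ 1 ^ m + μ 2 ^ m) ∧ μ 0 * μ 1 * μ 2 = 1 ∧
        ∀ i, μ i ^ orderOf g = 1 := by
  obtain ⟨b₀, μ₀, hμ, hb, hc⟩ :=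
    CharClifford.exists_eigenvalues ρ g (orderOf_pos g).ne' (pow_orderOf_eq_one g)
  let e : Fin (finrank ℂ (Fin 3 → ℂ)) ≃ Fin 3 := finCongr (finrank_fin_fun ℂ)
  have hb' : ∀ i, ρ g ((b₀.reindex e) i) = μ₀ (e.symm i) • (b₀.reindex e) i := fun i => by
    rw [Basis.reindex_apply, hb]
  refine ⟨b₀.reindex e, μ₀ ∘ e.symm, hb', fun i => ?_, fun m => ?_, ?_, fun i => hμ _⟩
  · rw [Complex.mul_conj', Function.comp_apply,
      Complex.norm_eq_one_of_pow_eq_one (hμ _) (orderOf_pos g).ne']
    simp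
  · rw [hc m, ← Equiv.sum_comp e.symm, Fin.sum_univ_three]
    rfl
  · let d : G →* ℂˣ := ((LinearMap.det (M := Fin 3 → ℂ) (A := ℂ)).comp ρ).toHomUnits
    have h1 : LinearMap.det (ρ g) = 1 := congrArg Units.val (eq_one_of_comm hperf d g)
    have h2 : LinearMap.toMatrix (b₀.reindex e) (b₀.reindex e) (ρ g) =
        Matrix.diagonal (μ₀ ∘ e.symm) := by
      ext i j
      rw [LinearMap.toMatrix_apply, hb', map_smul, Basis.repr_self, Finsupp.smul_apply,
        smul_eq_mul, Matrix.diagonal_apply, Finsupp.single_apply]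
      by_cases h : i = j
      · subst h; simp
      · simp [h, Ne.symm h]
    rw [← LinearMap.det_toMatrix (b₀.reindex e), h2, Matrix.det_diagonal, Fin.prod_univ_three] at h1
    exact h1

/-- The determinant is one. -/
theorem character_sq (g : G) :
    ρ.character (g ^ 2) = ρ.character g ^ 2 - 2 * conj (ρ.character g) := by
  obtain ⟨b, μ, -, hn, hc, hd, -⟩ := exists_eigen hperf ρ g
  have h1 := hc 1
  simp only [pow_one] at h1
  rw [hc 2, h1, map_add, map_add]
  have e0 : conj (μ 0) = μ 1 * μ 2 := by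
    linear_combination (μ 1 * μ 2) * hn 0 - conj (μ 0) * hd
  have e1 : conj (μ 1) = μ 0 * μ 2 := by
    linear_combination (μ 0 * μ 2) * hn 1 - conj (μ 1) * hd
  have e2 : conj (μ 2) = μ 0 * μ 1 := by
    linear_combination (μ 0 * μ 1) * hn 2 - conj (μ 2) * hd
  rw [e0, e1, e2]
  ring

theorem exists_fixed {g : G} (hr : conj (ρ.character g) = ρ.character g) :
    ∃ (b : Basis (Fin 3) ℂ (Fin 3 → ℂ)) (a : ℂ),
      ρ g (b 0) = b 0 ∧ ρ g (b 1) = a • b 1 ∧ ρ g (b 2) = a⁻¹ • b 2 ∧
        a ^ orderOf g = 1 ∧ ρ.character g = 1 + a + a⁻¹ := by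
  obtain ⟨b, μ, hb, hn, hc, hd, ho⟩ := exists_eigen hperf ρ g
  have h1 := hc 1
  simp only [pow_one] at h1
  have e0 : conj (μ 0) = μ 1 * μ 2 := by
    linear_combination (μ 1 * μ 2) * hn 0 - conj (μ 0) * hd
  have e1 : conj (μ 1) = μ 0 * μ 2 := by
    linear_combination (μ 0 * μ 2) * hn 1 - conj (μ 1) * hd
  have e2 : conj (μ 2) = μ 0 * μ 1 := by
    linear_combination (μ 0 * μ 1) * hn 2 - conj (μ 2) * hd
  rw [h1, map_add, map_add, e0, e1, e2] at hr
  have hz : (1 - μ 0) * (1 - μ 1) * (1 - μ 2) = 0 := by linear_combination hr - hd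
  obtain ⟨i, hi⟩ : ∃ i, μ i = 1 := by
    rcases mul_eq_zero.mp hz with h | h
    · rcases mul_eq_zero.mp h with h | h
      · exact ⟨0, (sub_eq_zero.mp h).symm⟩
      · exact ⟨1, (sub_eq_zero.mp h).symm⟩
    · exact ⟨2, (sub_eq_zero.mp h).symm⟩
  set s := Equiv.swap 0 i
  have hs0 : s 0 = i := Equiv.swap_apply_left 0 i
  have hprod : μ (s 0) * μ (s 1) * μ (s 2) = 1 := by
    fin_cases i <;> simp only [s, Fin.zero_eta, Fin.mk_one] <;>
      simp [Equiv.swap_apply_def] <;> linear_combination hd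
  have hsum : μ (s 0) + μ (s 1) + μ (s 2) = μ 0 + μ 1 + μ 2 := by
    have := Equiv.sum_comp s μ
    rwa [Fin.sum_univ_three, Fin.sum_univ_three] at this
  rw [hs0, hi, one_mul] at hprod
  have hinv : μ (s 2) = (μ (s 1))⁻¹ := eq_inv_of_mul_eq_one_right hprod
  have hre : ∀ j, ρ g (b.reindex s.symm j) = μ (s j) • b.reindex s.symm j := fun j => by
    rw [Basis.reindex_apply, Equiv.symm_symm, hb]
  refine ⟨b.reindex s.symm, μ (s 1), ?_, hre 1, ?_, ho _, ?_⟩
  · rw [hre 0, hs0, hi, one_smul]
  · rw [hre 2, hinv]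
  · rw [h1, ← hsum, hs0, hi, hinv]

variable [ρ.IsIrreducible] (hinj : Function.Injective ρ)

include hinj

omit hinj in
theorem orderOf_le_five {g : G} {b : Basis (Fin 3) ℂ (Fin 3 → ℂ)} {a : ℂ} (h0 : ρ g (b 0) = b 0)
    (h1 : ρ g (b 1) = a • b 1) (h2 : ρ g (b 2) = a⁻¹ • b 2) (ha : a ^ orderOf g = 1) :
    orderOf a ≤ 5 := by
  by_contra hm
  push Not at hm
  set m := orderOf a with hmdef
  haveI : NeZero m := ⟨by omega⟩
  obtain ⟨k, -, hk⟩ := (IsPrimitiveRoot.orderOf a).eq_pow_of_pow_eq_one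
    (ξ := Complex.exp (2 * Real.pi * Complex.I / m))
    (Complex.isPrimitiveRoot_exp m (NeZero.ne m)).pow_eq_one
  have hζ1 : a ^ k ≠ 1 := by
    rw [hk]
    exact (Complex.isPrimitiveRoot_exp m (NeZero.ne m)).ne_one (by omega)
  have hclose : ‖a ^ k - 1‖ ≤ 1 := by
    rw [hk, show 2 * (Real.pi : ℂ) * Complex.I / m = Complex.I * ((2 * Real.pi / m : ℝ) : ℂ) by
      push_cast; ring, Complex.norm_exp_I_mul_ofReal_sub_one, norm_mul, Real.norm_eq_abs,
      Real.norm_eq_abs, abs_two]
    have hm6 : (6 : ℝ) ≤ m := by exact_mod_cast hm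
    have hpi := Real.pi_pos
    have hle : 2 * Real.pi / m / 2 ≤ Real.pi / 6 := by
      rw [div_div, div_le_div_iff₀ (by positivity) (by norm_num)]
      nlinarith
    have hge : 0 ≤ 2 * Real.pi / m / 2 := by positivity
    rw [abs_of_nonneg (Real.sin_nonneg_of_nonneg_of_le_pi hge (by linarith))]
    have := Real.sin_le_sin_of_le_of_le_pi_div_two (by linarith) (by linarith) hle
    rw [Real.sin_pi_div_six] at this
    linarith
  have han : ‖a‖ = 1 := Complex.norm_eq_one_of_pow_eq_one ha (orderOf_pos g).ne'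
  have hclose' : ‖(a ^ k)⁻¹ - 1‖ ≤ 1 := by
    rw [Complex.inv_eq_conj (by rw [norm_pow, han, one_pow]), ← map_one (starRingEnd ℂ), ← map_sub,
      Complex.norm_conj]
    exact hclose
  set μ : Fin 3 → ℂ := ![1, a ^ k, (a ^ k)⁻¹] with hμ
  have hbk : ∀ i, ρ (g ^ k) (b i) = μ i • b i := by
    have hp : ∀ (j : ℕ) (c : ℂ) (w : Fin 3 → ℂ), ρ g w = c • w → ρ (g ^ j) w = c ^ j • w := by
      intro j c w hw
      induction j with
      | zero => simp
      | succ j ih =>
        rw [pow_succ', map_mul, Module.End.mul_apply, ih, map_smul, hw, smul_smul, ← pow_succ]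
    intro i
    fin_cases i
    · simpa [hμ] using hp k 1 _ (by rw [one_smul]; exact h0)
    · simpa [hμ] using hp k a _ h1
    · simpa [hμ, inv_pow] using hp k a⁻¹ _ h2
  set y := g ^ k
  have hall : ∀ c : ℂ, (∃ v, v ≠ 0 ∧ ρ y v = c • v) → ‖c - 1‖ ≤ 1 := by
    rintro c ⟨v, hv, he⟩
    obtain ⟨i, rfl⟩ := BlkChar.Three.eigen_mem (ρ y) b μ hbk hv he
    fin_cases i
    · simp [hμ]
    · simpa [hμ] using hclose
    · simpa [hμ] using hclose'
  have hfix : ∀ w, ρ y w = w → ∃ c : ℂ, w = c • b 0 := by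
    intro w hw
    refine ⟨b.repr w 0, ?_⟩
    have hi : ∀ i, (μ i - 1) * b.repr w i = 0 := fun i => by
      have hr : b.repr (ρ y w) i = μ i * b.repr w i := by
        conv_lhs => rw [← b.sum_repr w]
        simp only [map_sum, map_smul, hbk, Basis.repr_self, smul_smul, Finsupp.coe_finsetSum,
          Finset.sum_apply, Finsupp.smul_apply, smul_eq_mul, Finsupp.single_apply]
        simp [mul_comm]
      rw [hw] at hr
      linear_combination -hr
    have hinv1 : (a ^ k)⁻¹ ≠ 1 := fun h => hζ1 (inv_eq_one.mp h)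
    conv_lhs => rw [← b.sum_repr w, Fin.sum_univ_three]
    have e1 := (mul_eq_zero.mp (hi 1)).resolve_left (by simpa [hμ, sub_eq_zero] using hζ1)
    have e2 := (mul_eq_zero.mp (hi 2)).resolve_left (by simpa [hμ, sub_eq_zero] using hinv1)
    rw [e1, e2, zero_smul, zero_smul, add_zero, add_zero]
  let P : G → Prop := fun z => ∀ w, ρ y w = w → ρ y (ρ z w) = ρ z w
  have hP1 : P 1 := fun w hw => by rwa [map_one, Module.End.one_apply]
  have hPmul : ∀ p q, P p → P q → P (p * q) := fun p q hp hq w hw => by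
    rw [map_mul, Module.End.mul_apply]
    exact hp _ (hq w hw)
  let S : Subgroup G :=
    { carrier := {z | P z}
      one_mem' := hP1
      mul_mem' := fun {p q} => hPmul p q
      inv_mem' := fun {p} (hp : P p) => by
        have h : ∀ j : ℕ, P (p ^ j) := fun j => by
          induction j with
          | zero => rw [pow_zero]; exact hP1
          | succ j ih => rw [pow_succ]; exact hPmul _ _ ih hp
        rw [show p⁻¹ = p ^ (orderOf p - 1) by
          rw [inv_eq_iff_mul_eq_one, ← pow_succ', Nat.sub_add_cancel (orderOf_pos p),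
            pow_orderOf_eq_one]]
        exact h _ }
  have hN : Subgroup.normalClosure ({y} : Set G) ≤ S := by
    rw [Subgroup.normalClosure, Subgroup.closure_le]
    intro x hx
    obtain ⟨p, hp, hpx⟩ := Group.mem_conjugatesOfSet_iff.mp hx
    obtain rfl : p = y := hp
    obtain ⟨z, rfl⟩ := isConj_iff.mp hpx
    exact fun w hw => Arc.fixed_invariant ρ hall z hw
  have h0' : ρ y (b 0) = b 0 := by rw [hbk]; simp [hμ]
  obtain ⟨c, hc⟩ := scalar_of_line hperf ρ (Subgroup.normalClosure ({y} : Set G)) (b.ne_zero 0)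
    (fun n hn => hfix _ (hN hn _ h0')) y (Subgroup.subset_normalClosure rfl)
  have hc1 : c = 1 := by
    have := h0'
    rw [hc, LinearMap.smul_apply, Module.End.one_apply] at this
    exact smul_left_injective ℂ (b.ne_zero 0) (this.trans (one_smul _ _).symm)
  have := hbk 1
  rw [hc, hc1, one_smul, Module.End.one_apply] at this
  refine hζ1 ?_
  have := smul_left_injective ℂ (b.ne_zero 1) ((this.symm).trans (one_smul _ _).symm)
  simpa [hμ] using this

/-- The possible real values. -/
def IsVal (c : ℂ) : Prop := c = 3 ∨ c = -1 ∨ c = 0 ∨ c = 1 ∨ c ^ 2 = c + 1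

/-- The data of an element with a real value. -/
theorem real_data {g : G} (hr : conj (ρ.character g) = ρ.character g) :
    IsVal (ρ.character g) ∧ (ρ.character g = 3 ↔ g = 1) ∧
      (ρ.character g = 3 ∨ ρ.character g = -1 ↔ g ^ 2 = 1) ∧
      (ρ.character g ^ 2 = ρ.character g + 1 →
        g ^ 5 = 1 ∧ ρ.character (g ^ 2) = 1 - ρ.character g) := by
  have hsq := character_sq hperf ρ g
  rw [hr] at hsq
  obtain ⟨b, a, h0, h1, h2, ha, hc⟩ := exists_fixed hperf ρ hr
  have hm := orderOf_le_five hperf ρ h0 h1 h2 ha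
  set c := ρ.character g
  have hpow : ∀ k : ℕ, a ^ k = 1 → g ^ k = 1 := by
    intro k hk
    refine hinj ?_
    rw [map_one, map_pow]
    refine b.ext fun i => ?_
    have hp : ∀ (j : ℕ) (c : ℂ) (w : Fin 3 → ℂ), ρ g w = c • w → (ρ g ^ j) w = c ^ j • w := by
      intro j c w hw
      induction j with
      | zero => simp
      | succ j ih =>
        rw [pow_succ', Module.End.mul_apply, ih, map_smul, hw, smul_smul, ← pow_succ]
    fin_cases i
    · simpa using hp k 1 _ (by rw [one_smul]; exact h0)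
    · simpa [hk] using hp k a _ h1
    · simpa [hk, inv_pow] using hp k a⁻¹ _ h2
  have ha0 : a ≠ 0 := fun h => by rw [h, zero_pow (orderOf_pos g).ne'] at ha; simp at ha
  have hmpos : 0 < orderOf a :=
    orderOf_pos_iff.mpr (isOfFinOrder_iff_pow_eq_one.mpr ⟨_, orderOf_pos g, ha⟩)
  have hone : c = 3 → g = 1 := fun h => by
    have := CharClifford.eq_one_of_character_eq_finrank ρ g (h.trans (by simp))
    exact hinj (this.trans (map_one ρ).symm)
  have hgone : g = 1 → c = 3 := by rintro rfl; simp [c]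
  have hsq2 : g ^ 2 = 1 → c = 3 ∨ c = -1 := fun hg => by
    obtain ⟨b', μ, hb', -, hμc, -, hμo⟩ := exists_eigen hperf ρ g
    have ha2 : a ^ 2 = 1 := by
      refine orderOf_dvd_iff_pow_eq_one.mp ?_
      exact (orderOf_dvd_of_pow_eq_one ha).trans (orderOf_dvd_of_pow_eq_one hg)
    rcases mul_self_eq_one_iff.mp ((pow_two a).symm.trans ha2) with e | e
    · left; rw [hc, e]; norm_num
    · right; rw [hc, e]; norm_num
  have hap := pow_orderOf_eq_one a
  have hlast : ∀ h : orderOf a = 5, c ^ 2 = c + 1 := fun h => by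
    rw [h] at hap
    have hne : a ≠ 1 := fun e => by rw [e, orderOf_one] at h; omega
    have h4 : a ^ 4 + a ^ 3 + a ^ 2 + a + 1 = 0 :=
      mul_left_cancel₀ (sub_ne_zero.mpr hne)
        (show (a - 1) * (a ^ 4 + a ^ 3 + a ^ 2 + a + 1) = (a - 1) * 0 by linear_combination hap)
    rw [hc]
    field_simp
    linear_combination h4
  refine ⟨?_, ⟨hone, hgone⟩, ⟨fun h => ?_, hsq2⟩, fun h5 => ?_⟩
  · rcases (by omega : orderOf a = 1 ∨ orderOf a = 2 ∨ orderOf a = 3 ∨ orderOf a = 4 ∨
        orderOf a = 5) with e | e | e | e | e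
    · left; rw [hc, orderOf_eq_one_iff.mp e]; norm_num
    · right; left
      rw [e] at hap
      have hne : a ≠ 1 := fun e' => by rw [e', orderOf_one] at e; omega
      rw [hc, (mul_self_eq_one_iff.mp ((pow_two a).symm.trans hap)).resolve_left hne]
      norm_num
    · right; right; left
      rw [e] at hap
      have hne : a ≠ 1 := fun e' => by rw [e', orderOf_one] at e; omega
      have h3 : a ^ 2 + a + 1 = 0 := mul_left_cancel₀ (sub_ne_zero.mpr hne)
        (show (a - 1) * (a ^ 2 + a + 1) = (a - 1) * 0 by linear_combination hap)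
      rw [hc]
      field_simp
      linear_combination h3
    · right; right; right; left
      rw [e] at hap
      have hne : a ^ 2 ≠ 1 := fun e' => by
        have := orderOf_dvd_of_pow_eq_one e'
        rw [e] at this; omega
      have h4 : a ^ 2 + 1 = 0 := mul_left_cancel₀ (sub_ne_zero.mpr hne)
        (show (a ^ 2 - 1) * (a ^ 2 + 1) = (a ^ 2 - 1) * 0 by linear_combination hap)
      rw [hc]
      field_simp
      linear_combination h4
    · right; right; right; right; exact hlast e
  · rcases h with h | h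
    · rw [hone h, one_pow]
    · refine hpow 2 ?_
      have h2' : (a + 1) ^ 2 = 0 := by
        rw [hc] at h
        field_simp at h
        linear_combination h
      have := eq_neg_of_add_eq_zero_left (pow_eq_zero_iff two_ne_zero |>.mp h2')
      rw [this]; norm_num
  · refine ⟨hpow 5 ?_, ?_⟩
    · have h4 : a ^ 4 + a ^ 3 + a ^ 2 + a + 1 = 0 := by
        rw [hc] at h5
        field_simp at h5
        linear_combination h5
      linear_combination (a - 1) * h4
    · rw [hsq]
      linear_combination h5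

end Cfsg.Agent.Blocks88.FourDiff
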